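import Cfsg.Agent.H839.Rad.Extra
import Cfsg.Agent.H497.Stein.Heis

/-!
# Real elements of extraspecial groups (helper285, for S4114)

`Q = ⟨a, b, c, d⟩` extraspecial with centre `⟨w⟩` (`Cfsg.Agent.H839.Rad.Ext`). If `g` inverts `Q` modulo `⟨w⟩`, then every element of
`Q` outside of `⟨w⟩` is conjugate to its inverse.
-/

set_option autoImplicit false

namespace Cfsg.Agent.H285.ExtReal

open Subgroup Cfsg.Agent.H839.Rad Cfsg.Agent.H839.Rad.Ext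

variable {K : Type*} [Group K] {p : ℕ} {w a b c d : K}

theorem comm_zpow (E : Ext p w a b c d) {x u : K} (hx : x ∈ E.Q) (hu : u ∈ zpowers w) : u * x = x * u := by
  obtain ⟨n, rfl⟩ := mem_zpowers_iff.1 hu
  exact ((show Commute w x from (E.comm_w x hx).symm).zpow_left n).eq

/-- inversion modulo `⟨w⟩` can be checked on generators -/
theorem inverts (E : Ext p w a b c d) {g : K} (hw : g * w * g⁻¹ ∈ zpowers w) (ha : g * a * g⁻¹ * a ∈ zpowers w)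
    (hb : g * b * g⁻¹ * b ∈ zpowers w) (hc : g * c * g⁻¹ * c ∈ zpowers w) (hd : g * d * g⁻¹ * d ∈ zpowers w) :
    ∀ x ∈ E.Q, g * x * g⁻¹ * x ∈ zpowers w := by
  let H : Subgroup K :=
    { carrier := {x | x ∈ E.Q ∧ g * x * g⁻¹ * x ∈ zpowers w}
      one_mem' := ⟨one_mem _, by simp⟩
      mul_mem' := by
        rintro x y ⟨hx, hx'⟩ ⟨hy, hy'⟩
        refine ⟨mul_mem hx hy, ?_⟩
        have h1 := comm_zpow E (inv_mem hx) hy'
        have h2 : g * (x * y) * g⁻¹ * (x * y) =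
            (g * x * g⁻¹ * x) * (x⁻¹ * (g * y * g⁻¹ * y)) * (y⁻¹ * x * y) := by group
        have h3 : g * (x * y) * g⁻¹ * (x * y) =
            (g * x * g⁻¹ * x) * (g * y * g⁻¹ * y) * (x⁻¹ * y⁻¹ * x⁻¹⁻¹ * y⁻¹⁻¹) := by
          rw [h2, ← h1]; group
        rw [h3]
        exact mul_mem (mul_mem hx' hy') (E.commutator_mem _ (inv_mem hx) _ (inv_mem hy))
      inv_mem' := by
        rintro x ⟨hx, hx'⟩
        refine ⟨inv_mem hx, ?_⟩
        have h1 := comm_zpow E hx (inv_mem hx')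
        have h2 : g * x⁻¹ * g⁻¹ * x⁻¹ = x * (g * x * g⁻¹ * x)⁻¹ * x⁻¹ := by group
        have h3 : g * x⁻¹ * g⁻¹ * x⁻¹ = (g * x * g⁻¹ * x)⁻¹ := by
          rw [h2, ← h1]; group
        rw [h3]
        exact inv_mem hx' }
  have hle : E.Q ≤ H := E.Q_le ⟨E.a_mem, ha⟩ ⟨E.b_mem, hb⟩ ⟨E.c_mem, hc⟩ ⟨E.d_mem, hd⟩
    ⟨E.w_mem, mul_mem hw (mem_zpowers w)⟩
  exact fun x hx => (hle hx).2

/-- elements of `Q` outside of the centre are real -/
theorem isConj_inv [Fact p.Prime] (E : Ext p w a b c d) {g : K} (hg : ∀ x ∈ E.Q, g * x * g⁻¹ * x ∈ zpowers w) {x : K}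
    (hx : x ∈ E.Q) (hxw : x ∉ zpowers w) : IsConj x x⁻¹ := by
  obtain ⟨y, hy, hxy⟩ : ∃ y ∈ E.Q, x * y ≠ y * x := by
    by_contra h
    push Not at h
    exact hxw (E.center hx h)
  obtain ⟨n, hn⟩ := mem_zpowers_iff.1 (hg x hx)
  obtain ⟨k, hk⟩ := mem_zpowers_iff.1 (E.commutator_mem y hy x⁻¹ (inv_mem hx))
  have hwp : w ^ p = 1 := by rw [← E.hw]; exact pow_orderOf_eq_one w
  have hk0 : ¬ (p : ℤ) ∣ k := by
    intro h
    rw [Cfsg.Agent.H497.Stein.zpow_dvd hwp h] at hk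
    apply hxy
    have h1 : y * x⁻¹ * y⁻¹ * x⁻¹⁻¹ = 1 := hk.symm
    rw [inv_inv, mul_eq_one_iff_eq_inv, mul_inv_eq_iff_eq_mul] at h1
    calc x * y = x * (y * x⁻¹) * x := by group
      _ = x * (x⁻¹ * y) * x := by rw [h1]
      _ = y * x := by group
  obtain ⟨t, ht⟩ := Cfsg.Agent.H497.Stein.exists_sol hk0 (-n)
  have cx : w ^ k * x⁻¹ = x⁻¹ * w ^ k := comm_zpow E (inv_mem hx) (zpow_mem (mem_zpowers w) k)
  have cy : w ^ k * y = y * w ^ k := comm_zpow E hy (zpow_mem (mem_zpowers w) k)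
  have h1 : y * x⁻¹ = x⁻¹ * y * w ^ k := by
    have h2 : w ^ k * x⁻¹ * y = y * x⁻¹ := by rw [hk]; group
    rw [← h2, cx, mul_assoc, cy, mul_assoc]
  have h2 := zpow_comm_zpow h1 cy cx t 1
  rw [zpow_one, mul_one] at h2
  have h3 : y ^ t * x⁻¹ * (y ^ t)⁻¹ = g * x * g⁻¹ := by
    have c1 : (w ^ k) ^ t * x⁻¹ = x⁻¹ * (w ^ k) ^ t := comm_zpow E (inv_mem hx) (zpow_mem (zpow_mem (mem_zpowers w) k) t)
    have c2 : (w ^ k) ^ t * y ^ t = y ^ t * (w ^ k) ^ t :=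
      comm_zpow E (zpow_mem hy t) (zpow_mem (zpow_mem (mem_zpowers w) k) t)
    rw [h2, mul_assoc x⁻¹, ← c2, ← mul_assoc, mul_inv_cancel_right, ← c1]
    have h4 : g * x * g⁻¹ = w ^ n * x⁻¹ := by rw [hn]; group
    have h5 : w ^ (k * t) = w ^ n := by
      have h6 : k * t = n + (-n + t * k) := by ring
      rw [h6, zpow_add, Cfsg.Agent.H497.Stein.zpow_dvd hwp ht, mul_one]
    rw [h4, ← zpow_mul, h5]
  exact (isConj_iff.2 ⟨g, rfl⟩ : IsConj x (g * x * g⁻¹)).trans (isConj_iff.2 ⟨y ^ t, h3⟩).symm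

end Cfsg.Agent.H285.ExtReal
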