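import Cfsg.Agent.H285.Ccp.HNRel
import Cfsg.Agent.H285.Ccp.ExtReal
import Cfsg.Agent.H478.RadHeis
import Cfsg.Agent.H497.Stein.Eng
import Cfsg.Agent.KFacts.HN.Classes

/-!
# Elements of order 3 of the Harada-Norton group are real (helper285, for S4114)

`P = Q⟨F⟩`, `Q = 3 ^ (1 + 4)`, is a Sylow 3-subgroup. `S` inverts `Q` modulo the centre `⟨W⟩`, `V` inverts `W`; the elements of the coset
`Q F` are conjugate under `Q` to elements `A ^ i C₁ ^ u W ^ m F`, and `S V` inverts `A`, `C₁`, `W` and `F`.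
-/

set_option autoImplicit false

namespace Cfsg.Agent.H285.HN3

open Subgroup Cfsg Cfsg.Agent.H839.Rad.Ext Cfsg.Agent.H285.ExtReal

instance three : Fact (Nat.Prime 3) := ⟨Nat.prime_three⟩

/-! ### conjugation -/

theorem conj_of {x y g : Spor.HN} (h : g * x = y * g) : g * x * g⁻¹ = y := by
  rw [h, mul_inv_cancel_right]

theorem sq_eq {x : Spor.HN} (h : x ^ 3 = 1) : x * x = x⁻¹ := by
  rw [eq_inv_iff_mul_eq_one, ← h]
  simp only [pow_succ, pow_zero, one_mul]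

theorem S_A : S * A * S⁻¹ = A⁻¹ := by rw [conj_of e_sa, sq_eq e_a3]
theorem S_B : S * B * S⁻¹ = B⁻¹ := by rw [conj_of e_sb, sq_eq e_b3]
theorem S_C : S * C₁ * S⁻¹ = C₁⁻¹ := by rw [conj_of e_sc, sq_eq e_c3]
theorem S_D : S * D * S⁻¹ = D⁻¹ := by rw [conj_of e_sd, sq_eq e_d3]
theorem S_W : S * W * S⁻¹ = W := conj_of e_sw
theorem S_F : S * F * S⁻¹ = F := conj_of e_sf
theorem V_W : V * W * V⁻¹ = W⁻¹ := by rw [conj_of e_vw, sq_eq e_w3]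
theorem V_F : V * F * V⁻¹ = F⁻¹ := by rw [conj_of e_vf, sq_eq e_f3]
theorem V_A : V * A * V⁻¹ = A := conj_of e_va
theorem V_C : V * C₁ * V⁻¹ = C₁ := conj_of e_vc
theorem F_W : F * W * F⁻¹ = W := conj_of e_fw
theorem F_B : F * B * F⁻¹ = B := conj_of e_fb
theorem F_D : F * D * F⁻¹ = D := conj_of e_fd
theorem F_A : F * A * F⁻¹ = nf W A B C₁ D 1 1 0 0 1 := conj_of e_fa
theorem F_C : F * C₁ * F⁻¹ = nf W A B C₁ D 0 0 1 2 2 := conj_of e_fc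

theorem F_Q : ∀ x ∈ ext.Q, F * x * F⁻¹ ∈ ext.Q := by
  refine ext.conj_mem ?_ ?_ ?_ ?_ ?_
  · rw [F_A]; exact ext.nf_mem _ _ _ _ _
  · rw [F_B]; exact ext.b_mem
  · rw [F_C]; exact ext.nf_mem _ _ _ _ _
  · rw [F_D]; exact ext.d_mem
  · rw [F_W]; exact ext.w_mem

/-! ### `Q` -/

theorem S_inv : ∀ x ∈ ext.Q, S * x * S⁻¹ * x ∈ zpowers W := by
  refine inverts ext ?_ ?_ ?_ ?_ ?_
  · rw [S_W]; exact mem_zpowers W
  · rw [S_A, inv_mul_cancel]; exact one_mem _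
  · rw [S_B, inv_mul_cancel]; exact one_mem _
  · rw [S_C, inv_mul_cancel]; exact one_mem _
  · rw [S_D, inv_mul_cancel]; exact one_mem _

theorem real_Q {x : Spor.HN} (hx : x ∈ ext.Q) : IsConj x x⁻¹ := by
  by_cases h : x ∈ zpowers W
  · obtain ⟨n, rfl⟩ := mem_zpowers_iff.1 h
    refine isConj_iff.2 ⟨V, ?_⟩
    rw [← conj_zpow, V_W, inv_zpow]
  · exact isConj_inv ext S_inv hx h

/-! ### the coset of `F` -/

theorem nf_eq {i j u l m i' j' u' l' m' : ℤ} (h1 : i = i') (h2 : j = j') (h3 : u = u') (h4 : l = l') (h5 : m = m') :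
    nf W A B C₁ D i j u l m = nf W A B C₁ D i' j' u' l' m' := by rw [h1, h2, h3, h4, h5]

theorem zpow_eq {a : Spor.HN} (ha : a ^ 3 = 1) {i j : ℤ} (h : (3 : ℤ) ∣ i - j) : a ^ i = a ^ j := by
  obtain ⟨t, ht⟩ := h
  have h1 : i = j + 3 * t := by linarith
  have h2 : a ^ (3 * t) = 1 := by
    rw [zpow_mul]
    have : a ^ (3 : ℤ) = a ^ 3 := by exact_mod_cast zpow_natCast a 3
    rw [this, ha, one_zpow]
  rw [h1, zpow_add, h2, mul_one]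

theorem nf_mod {i j u l m j' l' : ℤ} (h2 : (3 : ℤ) ∣ j - j') (h4 : (3 : ℤ) ∣ l - l') :
    nf W A B C₁ D i j u l m = nf W A B C₁ D i j' u l' m := by
  unfold nf
  rw [zpow_eq ext.hb h2, zpow_eq ext.hd h4]

/-- conjugation by `A` -/
theorem conj_A (i j u l m : ℤ) : ∃ m' : ℤ,
    A * (nf W A B C₁ D i j u l m * F) * A⁻¹ = nf W A B C₁ D i (j - 1) u l m' * F := by
  have h1 : F * A⁻¹ * F⁻¹ = nf W A B C₁ D (-1) (-1) 0 0 (-2) := by
    have h2 : F * A⁻¹ * F⁻¹ = (F * A * F⁻¹)⁻¹ := by group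
    rw [h2, F_A, inv_eq_iff_mul_eq_one, ext.nf_mul, ← nf_zero (w := W) (a := A) (b := B) (c := C₁) (d := D)]
    exact nf_eq (by ring) (by ring) (by ring) (by ring) (by ring)
  have h3 : A = nf W A B C₁ D 1 0 0 0 0 := by simp [nf]
  have h4 : A * (nf W A B C₁ D i j u l m * F) * A⁻¹ =
      nf W A B C₁ D 1 0 0 0 0 * nf W A B C₁ D i j u l m * (F * A⁻¹ * F⁻¹) * F := by
    rw [← h3]; group
  rw [h4, h1, ext.nf_mul, ext.nf_mul]
  exact ⟨_, by congr 1; exact nf_eq (by ring) (by ring) (by ring) (by ring) rfl⟩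

/-- conjugation by `C₁` -/
theorem conj_C (i j u l m : ℤ) : ∃ m' : ℤ,
    C₁ * (nf W A B C₁ D i j u l m * F) * C₁⁻¹ = nf W A B C₁ D i j u (l - 2) m' * F := by
  have h1 : F * C₁⁻¹ * F⁻¹ = nf W A B C₁ D 0 0 (-1) (-2) (-4) := by
    have h2 : F * C₁⁻¹ * F⁻¹ = (F * C₁ * F⁻¹)⁻¹ := by group
    rw [h2, F_C, inv_eq_iff_mul_eq_one, ext.nf_mul, ← nf_zero (w := W) (a := A) (b := B) (c := C₁) (d := D)]
    exact nf_eq (by ring) (by ring) (by ring) (by ring) (by ring)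
  have h3 : C₁ = nf W A B C₁ D 0 0 1 0 0 := by simp [nf]
  have h4 : C₁ * (nf W A B C₁ D i j u l m * F) * C₁⁻¹ =
      nf W A B C₁ D 0 0 1 0 0 * nf W A B C₁ D i j u l m * (F * C₁⁻¹ * F⁻¹) * F := by
    rw [← h3]; group
  rw [h4, h1, ext.nf_mul, ext.nf_mul]
  exact ⟨_, by congr 1; exact nf_eq (by ring) (by ring) (by ring) (by ring) rfl⟩

theorem real_of_conj {x : Spor.HN} (g : Spor.HN) (h : IsConj (g * x * g⁻¹) (g * x * g⁻¹)⁻¹) : IsConj x x⁻¹ := by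
  have h1 : IsConj x (g * x * g⁻¹) := isConj_iff.2 ⟨g, rfl⟩
  have h2 : IsConj x⁻¹ (g * x * g⁻¹)⁻¹ := isConj_iff.2 ⟨g, by group⟩
  exact h1.trans (h.trans h2.symm)

theorem real_F0 (i u m : ℤ) : IsConj (nf W A B C₁ D i 0 u 0 m * F) (nf W A B C₁ D i 0 u 0 m * F)⁻¹ := by
  have cAC : Commute A C₁ := ext.ac
  have cWA : Commute W A := ext.wa
  have cWC : Commute W C₁ := ext.wc
  have hA : (S * V) * A * (S * V)⁻¹ = A⁻¹ := by
    calc (S * V) * A * (S * V)⁻¹ = S * (V * A * V⁻¹) * S⁻¹ := by group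
      _ = A⁻¹ := by rw [V_A, S_A]
  have hC : (S * V) * C₁ * (S * V)⁻¹ = C₁⁻¹ := by
    calc (S * V) * C₁ * (S * V)⁻¹ = S * (V * C₁ * V⁻¹) * S⁻¹ := by group
      _ = C₁⁻¹ := by rw [V_C, S_C]
  have hW' : (S * V) * W * (S * V)⁻¹ = W⁻¹ := by
    calc (S * V) * W * (S * V)⁻¹ = S * (V * W * V⁻¹) * S⁻¹ := by group
      _ = (S * W * S⁻¹)⁻¹ := by rw [V_W]; group
      _ = W⁻¹ := by rw [S_W]
  have hF : (S * V) * F * (S * V)⁻¹ = F⁻¹ := by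
    calc (S * V) * F * (S * V)⁻¹ = S * (V * F * V⁻¹) * S⁻¹ := by group
      _ = (S * F * S⁻¹)⁻¹ := by rw [V_F]; group
      _ = F⁻¹ := by rw [S_F]
  have h0 : nf W A B C₁ D i 0 u 0 m = A ^ i * C₁ ^ u * W ^ m := by simp [nf]
  have h1 : (S * V) * (A ^ i * C₁ ^ u * W ^ m) * (S * V)⁻¹ = (A ^ i * C₁ ^ u * W ^ m)⁻¹ := by
    calc (S * V) * (A ^ i * C₁ ^ u * W ^ m) * (S * V)⁻¹ =
        ((S * V) * A * (S * V)⁻¹) ^ i * ((S * V) * C₁ * (S * V)⁻¹) ^ u * ((S * V) * W * (S * V)⁻¹) ^ m := by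
          rw [conj_zpow, conj_zpow, conj_zpow]; group
      _ = (A ^ i)⁻¹ * (C₁ ^ u)⁻¹ * (W ^ m)⁻¹ := by rw [hA, hC, hW', inv_zpow, inv_zpow, inv_zpow]
      _ = (W ^ m)⁻¹ * ((C₁ ^ u)⁻¹ * (A ^ i)⁻¹) := by
          rw [((cWA.zpow_zpow m i).inv_inv.mul_right (cWC.zpow_zpow m u).inv_inv).eq.symm,
            ((cAC.zpow_zpow i u).inv_inv).eq]
      _ = _ := by rw [mul_inv_rev, mul_inv_rev]
  rw [h0]
  refine (isConj_iff.2 ⟨F⁻¹ * (S * V), ?_⟩)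
  calc F⁻¹ * (S * V) * (A ^ i * C₁ ^ u * W ^ m * F) * (F⁻¹ * (S * V))⁻¹ =
      F⁻¹ * ((S * V) * (A ^ i * C₁ ^ u * W ^ m) * (S * V)⁻¹) * ((S * V) * F * (S * V)⁻¹) * F := by group
    _ = F⁻¹ * (A ^ i * C₁ ^ u * W ^ m)⁻¹ := by rw [h1, hF, inv_mul_cancel_right]
    _ = _ := (mul_inv_rev _ _).symm

theorem real_F {q : Spor.HN} (hq : q ∈ ext.Q) : IsConj (q * F) (q * F)⁻¹ := by
  obtain ⟨i, j, u, l, m, rfl⟩ := hq
  -- the exponent of `D`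
  have hl : ∀ i u m l : ℤ, IsConj (nf W A B C₁ D i 0 u l m * F) (nf W A B C₁ D i 0 u l m * F)⁻¹ := by
    intro i u m l
    have s0 : ∀ l m : ℤ, (3 : ℤ) ∣ l → IsConj (nf W A B C₁ D i 0 u l m * F) (nf W A B C₁ D i 0 u l m * F)⁻¹ := by
      intro l m h
      rw [nf_mod (j' := 0) (l' := 0) (by simp) (by simpa using h)]
      exact real_F0 i u m
    have s2 : ∀ l m : ℤ, (3 : ℤ) ∣ l - 2 → IsConj (nf W A B C₁ D i 0 u l m * F) (nf W A B C₁ D i 0 u l m * F)⁻¹ := by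
      intro l m h
      apply real_of_conj C₁
      obtain ⟨m', hm⟩ := conj_C i 0 u l m
      rw [hm]
      exact s0 _ _ h
    have h3 : (3 : ℤ) ∣ l ∨ (3 : ℤ) ∣ l - 2 ∨ (3 : ℤ) ∣ (l - 2) - 2 := by omega
    rcases h3 with h | h | h
    · exact s0 l m h
    · exact s2 l m h
    · apply real_of_conj C₁
      obtain ⟨m', hm⟩ := conj_C i 0 u l m
      rw [hm]
      exact s2 _ _ h
  have s0 : ∀ j m : ℤ, (3 : ℤ) ∣ j → IsConj (nf W A B C₁ D i j u l m * F) (nf W A B C₁ D i j u l m * F)⁻¹ := by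
    intro j m h
    rw [nf_mod (j' := 0) (l' := l) (by simpa using h) (by simp)]
    exact hl i u m l
  have s1 : ∀ j m : ℤ, (3 : ℤ) ∣ j - 1 → IsConj (nf W A B C₁ D i j u l m * F) (nf W A B C₁ D i j u l m * F)⁻¹ := by
    intro j m h
    apply real_of_conj A
    obtain ⟨m', hm⟩ := conj_A i j u l m
    rw [hm]
    exact s0 _ _ h
  have h3 : (3 : ℤ) ∣ j ∨ (3 : ℤ) ∣ j - 1 ∨ (3 : ℤ) ∣ (j - 1) - 1 := by omega
  rcases h3 with h | h | h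
  · exact s0 j m h
  · exact s1 j m h
  · apply real_of_conj A
    obtain ⟨m', hm⟩ := conj_A i j u l m
    rw [hm]
    exact s1 _ _ h

/-! ### the Sylow subgroup -/

theorem card_HN : Nat.card Spor.HN = 273030912000000 := Cfsg.Agent.KFacts.HN.Classes.card_HN

instance fin_HN : Finite Spor.HN := Nat.finite_of_card_ne_zero (by rw [card_HN]; norm_num)

theorem F_norm : F ∈ normalizer (ext.Q : Set Spor.HN) := Cfsg.Agent.H839.Rad.mem_normalizer_of F_Q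

theorem Fz_Q (s : ℤ) : ∀ q ∈ ext.Q, F ^ s * q * (F ^ s)⁻¹ ∈ ext.Q := fun q hq =>
  (mem_normalizer_iff.1 (zpow_mem F_norm s) q).1 hq

/-- `Q⟨F⟩` -/
def P : Subgroup Spor.HN where
  carrier := {x | ∃ q ∈ ext.Q, ∃ s : ℤ, x = q * F ^ s}
  mul_mem' := by
    rintro _ _ ⟨q, hq, s, rfl⟩ ⟨q', hq', s', rfl⟩
    refine ⟨q * (F ^ s * q' * (F ^ s)⁻¹), mul_mem hq (Fz_Q s q' hq'), s + s', ?_⟩
    rw [zpow_add]
    group
  one_mem' := ⟨1, one_mem _, 0, by simp⟩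
  inv_mem' := by
    rintro _ ⟨q, hq, s, rfl⟩
    refine ⟨F ^ (-s) * q⁻¹ * (F ^ (-s))⁻¹, Fz_Q (-s) _ (inv_mem hq), -s, ?_⟩
    group

theorem Q_le_P : ext.Q ≤ P := fun q hq => ⟨q, hq, 0, by simp⟩
theorem F_mem_P : F ∈ P := ⟨1, one_mem _, 1, by simp⟩

theorem isPGroup_P : IsPGroup 3 ↥P := by
  have h1 : IsPGroup 3 ↥(zpowers F) := by
    rintro ⟨_, ⟨i, rfl⟩⟩
    refine ⟨1, Subtype.ext ?_⟩
    change (F ^ i) ^ (3 ^ 1) = 1
    rw [pow_one, ← zpow_natCast, ← zpow_mul, mul_comm, zpow_mul, zpow_natCast, e_f3, one_zpow]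
  have h2 : IsPGroup 3 ↥(zpowers F ⊔ ext.Q) :=
    h1.to_sup_of_normal_right' (ext.isPGroup (by decide)) (zpowers_le.2 F_norm)
  refine h2.to_le ?_
  rintro x ⟨q, hq, s, rfl⟩
  exact mul_mem (mem_sup_right hq) (zpow_mem (mem_sup_left (mem_zpowers F)) s)

theorem F_not : F ∉ ext.Q := by
  intro h
  have h1 : F * A * F⁻¹ * A⁻¹ ∈ zpowers W := ext.commutator_mem F h A ext.a_mem
  rw [F_A] at h1
  obtain ⟨n, hn⟩ := mem_zpowers_iff.1 h1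
  have h2 : nf W A B C₁ D 1 1 0 0 1 = nf W A B C₁ D 1 0 0 0 n := by
    have h3 : nf W A B C₁ D 1 1 0 0 1 = W ^ n * A := by rw [hn]; group
    rw [h3, ((show Commute W A from ext.wa).zpow_left n).eq]
    simp [nf]
  have h3 : nf W A B C₁ D 1 0 0 0 n * nf W A B C₁ D 1 0 0 0 0 = nf W A B C₁ D 1 0 0 0 0 * nf W A B C₁ D 1 0 0 0 n :=
    ext.comm_iff.2 (by norm_num)
  rw [← h2] at h3
  have h4 := ext.comm_iff.1 h3
  norm_num at h4

theorem index_P : ¬ 3 ∣ P.index := by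
  have h1 : 3 ^ 5 ∣ Nat.card ↥ext.Q := ext.pow_dvd_card (by norm_num) (by decide)
  obtain ⟨n, hn⟩ := IsPGroup.iff_card.1 isPGroup_P
  have h2 : Nat.card ↥ext.Q < Nat.card ↥P := by
    have h3 : ext.Q < P := lt_of_le_of_ne Q_le_P fun h => F_not (h ▸ F_mem_P)
    exact Set.ncard_lt_ncard h3 (Set.toFinite _)
  have h3 : 3 ^ 5 < 3 ^ n := by
    rw [← hn]
    exact (Nat.le_of_dvd Nat.card_pos h1).trans_lt h2
  have h4 : 5 < n := (Nat.pow_lt_pow_iff_right (by norm_num)).1 h3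
  rintro ⟨t, ht⟩
  have h5 := P.card_mul_index
  rw [hn, ht, card_HN] at h5
  obtain ⟨r, rfl⟩ := Nat.exists_eq_add_of_le h4
  have h6 : (3 : ℕ) ^ 7 ∣ 273030912000000 := ⟨3 ^ r * t, by rw [← h5]; ring⟩
  norm_num at h6

theorem real_P {x : Spor.HN} (hx : x ∈ P) : IsConj x x⁻¹ := by
  obtain ⟨q, hq, s, rfl⟩ := hx
  have h3 : (3 : ℤ) ∣ s - 0 ∨ (3 : ℤ) ∣ s - 1 ∨ (3 : ℤ) ∣ s - (-1) := by omega
  rcases h3 with h | h | h
  · rw [zpow_eq e_f3 h, zpow_zero, mul_one]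
    exact real_Q hq
  · rw [zpow_eq e_f3 h, zpow_one]
    exact real_F hq
  · rw [zpow_eq e_f3 h, zpow_neg_one]
    have h1 := real_F (F_Q _ (inv_mem hq))
    have h2 : F * q⁻¹ * F⁻¹ * F = (q * F⁻¹)⁻¹ := by group
    rw [h2, inv_inv] at h1
    exact h1.symm

/-- **elements of order 3 of HN are moved** -/
theorem moved_three : Cfsg.Agent.H497.Stein.Moved 3 Spor.HN := by
  refine Cfsg.Agent.H497.Stein.moved_of_real Nat.prime_three (by decide) fun y hy => ?_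
  have hy3 : y ^ 3 = 1 := by rw [← hy]; exact pow_orderOf_eq_one y
  obtain ⟨g, hg⟩ := Cfsg.Agent.H478.RadHeis.exists_conj_mem isPGroup_P index_P hy3
  exact real_of_conj g (real_P hg)

end Cfsg.Agent.H285.HN3
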