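import Cfsg.Agent.H285.Ccp.ExtReal
import Cfsg.Agent.H981.Inv.HN

/-!
# Elements of order 5 of the Harada-Norton group are real (helper285, for S4114)

`P = Q⟨F⟩`, `Q = 5 ^ (1 + 4)` (helper839, helper981). `k ^ 2` inverts `Q` modulo its centre `⟨W⟩`; `W ^ m` and `W ^ m F` are conjugate
(under `G`) to elements of `Q` outside of `⟨W⟩`; all elements of order 5 of `Q F` are conjugate to some `W ^ m F`.
-/

set_option autoImplicit false
set_option maxRecDepth 100000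

namespace Cfsg.Agent.H285.HN5

open Subgroup Cfsg Cfsg.Agent.H839.Rad.Ext Cfsg.Agent.H285.ExtReal Cfsg.Agent.H981.InvHN Cfsg.Agent.H497.Stein
open Cfsg.Agent.H839.Rad.HN (W A B C₁ D F τ k ext e_fa1 e_fb1 e_fa2 e_fb2 FW e_ka1 e_kb1 e_ka2 e_kb2 e_kw A_eq F_eq e_w5)

instance five : Fact (Nat.Prime 5) := ⟨Nat.prime_five⟩

theorem k_nf (i j u l : ℕ) (m : ℤ) : ∃ m' : ℤ, k * nf W A B C₁ D i j u l m * k⁻¹ =
    nf W A B C₁ D ((2 * u : ℕ) : ℤ) ((3 * i + 4 * u + 3 * l : ℕ) : ℤ) ((2 * i : ℕ) : ℤ)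
      ((4 * i + 3 * j + 3 * u : ℕ) : ℤ) m' := by
  obtain ⟨m', h⟩ := conj_nf e_kw e_ka1 e_kb1 e_ka2 e_kb2 i j u l m
  refine ⟨m', h.trans ?_⟩
  apply nf_eq <;> push_cast <;> ring

/-- `k ^ 2` inverts `Q` modulo `⟨W⟩` -/
theorem k_inv : ∀ x ∈ ext.Q, (k * k) * x * (k * k)⁻¹ * x ∈ zpowers W := by
  rintro _ ⟨i, j, u, l, m, rfl⟩
  obtain ⟨v, -, h⟩ := exists_code i j u l m
  rw [h, nv]
  generalize d0 v = i, d1 v = j, d2 v = u, d3 v = l
  obtain ⟨m1, h1⟩ := k_nf i j u l m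
  obtain ⟨m2, h2⟩ := k_nf (2 * u) (3 * i + 4 * u + 3 * l) (2 * i) (4 * i + 3 * j + 3 * u) m1
  have h3 : k * k * nf W A B C₁ D i j u l m * (k * k)⁻¹ * nf W A B C₁ D i j u l m =
      k * (k * nf W A B C₁ D i j u l m * k⁻¹) * k⁻¹ * nf W A B C₁ D i j u l m := by group
  rw [h3, h1, h2, ext.nf_mul]
  apply ext.nf_mem_zpowers
  · push_cast; exact ⟨i, by ring⟩
  · push_cast; exact ⟨4 * i + 2 * j + 3 * u, by ring⟩
  · push_cast; exact ⟨u, by ring⟩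
  · push_cast; exact ⟨3 * i + 4 * u + 2 * l, by ring⟩

theorem real_out {x : Spor.HN} (hx : x ∈ ext.Q) (h : x ∉ zpowers W) : IsConj x x⁻¹ := isConj_inv ext k_inv hx h

theorem real_of_conj {x : Spor.HN} (g : Spor.HN) (h : IsConj (g * x * g⁻¹) (g * x * g⁻¹)⁻¹) : IsConj x x⁻¹ := by
  have h1 : IsConj x (g * x * g⁻¹) := isConj_iff.2 ⟨g, rfl⟩
  have h2 : IsConj x⁻¹ (g * x * g⁻¹)⁻¹ := isConj_iff.2 ⟨g, by group⟩
  exact h1.trans (h.trans h2.symm)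

theorem W_eq : W = Cfsg.Agent.H839.Rad.HN.G * A * Cfsg.Agent.H839.Rad.HN.G⁻¹ := by rw [A_eq]; group

theorem comm_of_mem {x y : Spor.HN} (hx : x ∈ zpowers W) (hy : y ∈ ext.Q) : x * y = y * x := comm_zpow ext hy hx

theorem real_W (n : ℤ) : IsConj (W ^ n) (W ^ n)⁻¹ := by
  apply real_of_conj Cfsg.Agent.H839.Rad.HN.G⁻¹
  have h1 : Cfsg.Agent.H839.Rad.HN.G⁻¹ * W ^ n * Cfsg.Agent.H839.Rad.HN.G⁻¹⁻¹ = A ^ n := by
    rw [← conj_zpow, inv_inv, ← A_eq]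
  rw [h1]
  by_cases h : A ^ n ∈ zpowers W
  · have h2 : A ^ n = nf W A B C₁ D n 0 0 0 0 := by simp [nf]
    have h3 : B = nf W A B C₁ D 0 1 0 0 0 := by simp [nf]
    have h4 := comm_of_mem h ext.b_mem
    rw [h2, h3] at h4
    have h5 := ext.comm_iff.1 h4
    have h6 : (5 : ℤ) ∣ n := by simpa using h5
    have h7 : A ^ n = 1 := by rw [zpow_eq ext.ha (i := n) (j := 0) (by simpa using h6), zpow_zero]
    rw [h7, inv_one]
  · exact real_out (zpow_mem ext.a_mem n) h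

theorem real_Q {x : Spor.HN} (hx : x ∈ ext.Q) : IsConj x x⁻¹ := by
  by_cases h : x ∈ zpowers W
  · obtain ⟨n, rfl⟩ := mem_zpowers_iff.1 h
    exact real_W n
  · exact real_out hx h

theorem real_WF (m : ℤ) : IsConj (W ^ m * F) (W ^ m * F)⁻¹ := by
  apply real_of_conj Cfsg.Agent.H839.Rad.HN.G⁻¹
  have h1 : Cfsg.Agent.H839.Rad.HN.G⁻¹ * (W ^ m * F) * Cfsg.Agent.H839.Rad.HN.G⁻¹⁻¹ = A ^ m * D := by
    have h2 : Cfsg.Agent.H839.Rad.HN.G⁻¹ * (W ^ m * F) * Cfsg.Agent.H839.Rad.HN.G⁻¹⁻¹ =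
        (Cfsg.Agent.H839.Rad.HN.G⁻¹ * W ^ m * Cfsg.Agent.H839.Rad.HN.G⁻¹⁻¹) *
          (Cfsg.Agent.H839.Rad.HN.G⁻¹ * F * Cfsg.Agent.H839.Rad.HN.G⁻¹⁻¹) := by group
    rw [h2, ← conj_zpow, inv_inv, ← A_eq, F_eq]
    group
  rw [h1]
  exact real_Q (mul_mem (zpow_mem ext.a_mem m) ext.d_mem)

/-! ### the coset of `F` -/

/-- `x` is not an element of order 5 or real -/
def R5 (x : Spor.HN) : Prop := x ^ 5 = 1 → IsConj x x⁻¹

theorem R5.of_conj {x : Spor.HN} (t : Spor.HN) (h : R5 (t * x * t⁻¹)) : R5 x := fun hx =>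
  real_of_conj t (h (by rw [conj_pow, hx, mul_one, mul_inv_cancel]))

theorem move2 (g v : ℕ) (h : ∀ m, R5 (nv (mv2 g v) m * F)) : ∀ m, R5 (nv v m * F) := by
  intro m
  have key : ∀ (s : Spor.HN) (a0 a1 a2 a3 a4 s0 s1 s2 s3 : ℤ) (c0 c1 c2 c3 : ℕ),
      s⁻¹ = nf W A B C₁ D s0 s1 s2 s3 0 → F * s = nf W A B C₁ D a0 a1 a2 a3 a4 * F →
      (5 : ℤ) ∣ s0 + a0 - c0 → (5 : ℤ) ∣ s1 + a1 - c1 → (5 : ℤ) ∣ s2 + a2 - c2 → (5 : ℤ) ∣ s3 + a3 - c3 →
      (∀ m, R5 (nv (en (d0 v + c0) (d1 v + c1) (d2 v + c2) (d3 v + c3)) m * F)) → R5 (nv v m * F) := by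
    intro s a0 a1 a2 a3 a4 s0 s1 s2 s3 c0 c1 c2 c3 hs hF h0 h1 h2 h3 hv
    apply R5.of_conj s⁻¹
    obtain ⟨m', hm⟩ := step_F hs hF (d0 v) (d1 v) (d2 v) (d3 v) m
    rw [nv, hm]
    have h4 := hv m'
    rw [← nf_en] at h4
    rw [nf_mod (i' := ((d0 v + c0 : ℕ) : ℤ)) (j' := ((d1 v + c1 : ℕ) : ℤ)) (u' := ((d2 v + c2 : ℕ) : ℤ))
      (l' := ((d3 v + c3 : ℕ) : ℤ)) (by push_cast; omega) (by push_cast; omega) (by push_cast; omega)
      (by push_cast; omega)]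
    exact h4
  rcases g with _ | _ | _ | g
  · exact key A _ _ _ _ _ (-1) 0 0 0 4 0 4 4 (by simp [nf]) e_fa1 (by norm_num) (by norm_num) (by norm_num) (by norm_num)
      h
  · exact key B _ _ _ _ _ 0 (-1) 0 0 0 0 0 4 (by simp [nf]) e_fb1 (by norm_num) (by norm_num) (by norm_num) (by norm_num)
      h
  · exact key C₁ _ _ _ _ _ 0 0 (-1) 0 4 1 3 4 (by simp [nf]) e_fa2 (by norm_num) (by norm_num) (by norm_num)
      (by norm_num) h
  · exact key D _ _ _ _ _ 0 0 0 (-1) 4 0 4 3 (by simp [nf]) e_fb2 (by norm_num) (by norm_num) (by norm_num) (by norm_num)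
      h

/-- the elements of order 25 -/
theorem r5_c {u : ℕ} (h : (C₁ ^ u * F) ^ 5 ≠ 1) (m : ℤ) : R5 (nf W A B C₁ D 0 0 u 0 m * F) := by
  intro h1
  exfalso
  apply h
  have cF : Commute (W ^ m) F := (show Commute W F from FW.symm).zpow_left m
  have cC : Commute (W ^ m) (C₁ ^ u) := ((show Commute W C₁ from ext.wc).zpow_left m).pow_right u
  have h2 : nf W A B C₁ D 0 0 u 0 m * F = C₁ ^ u * F * W ^ m := by
    simp only [nf, zpow_zero, one_mul, mul_one, zpow_natCast]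
    rw [mul_assoc, cF.eq, ← mul_assoc]
  have h3 : Commute (C₁ ^ u * F) (W ^ m) := Commute.mul_left cC.symm cF.symm
  rw [h2, h3.mul_pow] at h1
  have h4 : (W ^ m) ^ 5 = 1 := by
    rw [← zpow_natCast, ← zpow_mul, mul_comm, zpow_mul, zpow_natCast, e_w5, one_zpow]
  rwa [h4, mul_one] at h1

theorem goodF : ∀ v < 625, ∀ m, R5 (nv v m * F) := by
  intro v hv
  refine all_of_rank (P := fun v => ∀ m, R5 (nv v m * F)) chk2 move2 ?_ _ v (Nat.lt_succ_self _) hv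
    (fun h => absurd h (by decide))
  intro v hv m
  simp only [List.mem_cons, List.not_mem_nil, or_false] at hv
  have hc : ∀ u : ℕ, u < 5 → nv (25 * u) m = nf W A B C₁ D 0 0 u 0 m := by
    intro u hu
    rw [nv, d0e, d1e, d2e, d3e]
    apply nf_eq <;> omega
  rcases hv with rfl | rfl | rfl | rfl | rfl
  · have h0 : nv 0 m = W ^ m := by simp [nv, nf, d0e, d1e, d2e, d3e]
    rw [h0]
    exact fun _ => real_WF m
  · rw [show (25 : ℕ) = 25 * 1 from rfl, hc 1 (by decide)]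
    exact r5_c (by simpa only [pow_one] using T3.r_c1) m
  · rw [show (50 : ℕ) = 25 * 2 from rfl, hc 2 (by decide)]
    exact r5_c (by simpa only [pow_succ, pow_zero, one_mul, mul_assoc] using T3.r_c2) m
  · rw [show (75 : ℕ) = 25 * 3 from rfl, hc 3 (by decide)]
    refine r5_c ?_ m
    have h3 : C₁ ^ 3 * F = C₁ * (C₁ * (C₁ * F)) := by simp only [pow_succ, pow_zero, one_mul, mul_assoc]
    rw [h3]
    exact T3.r_c3
  · rw [show (100 : ℕ) = 25 * 4 from rfl, hc 4 (by decide)]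
    refine r5_c ?_ m
    have h3 : C₁ ^ 4 * F = C₁ * (C₁ * (C₁ * (C₁ * F))) := by simp only [pow_succ, pow_zero, one_mul, mul_assoc]
    rw [h3]
    exact T3.r_c4

/-! ### all elements of order 5 -/

/-- **elements of order 5 of HN are moved** -/
theorem moved_five : Moved 5 Spor.HN := by
  intro x hx
  have hx5 : x ^ 5 = 1 := by rw [← hx]; exact pow_orderOf_eq_one x
  obtain ⟨g, hg⟩ := Cfsg.Agent.H478.RadHeis.exists_conj_mem isPGroup_P index_P hx5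
  apply MovedAt.of_conj (k := g)
  have ho : orderOf (g * x * g⁻¹) = 5 := by rw [← MulAut.conj_apply, MulEquiv.orderOf_eq, hx]
  have hgx5 : (g * x * g⁻¹) ^ 5 = 1 := by rw [conj_pow, hx5, mul_one, mul_inv_cancel]
  have h2 := sq_ne_one Nat.prime_five (by decide) ho
  obtain ⟨q, hq, s, hs⟩ := hg
  rw [hs] at hgx5 h2 ⊢
  by_cases h5 : (5 : ℤ) ∣ s
  · have h1 : F ^ s = 1 := by rw [zpow_eq F5 (i := s) (j := 0) (by simpa using h5), zpow_zero]
    rw [h1, mul_one] at h2 ⊢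
    exact movedAt_of_real (real_Q hq) h2
  · obtain ⟨t, ht⟩ : ∃ t : ℕ, (5 : ℤ) ∣ s * t - 1 := by
      have h4 : s % 5 = 1 ∨ s % 5 = 2 ∨ s % 5 = 3 ∨ s % 5 = 4 := by omega
      rcases h4 with h | h | h | h
      · exact ⟨1, by push_cast; omega⟩
      · exact ⟨3, by push_cast; omega⟩
      · exact ⟨2, by push_cast; omega⟩
      · exact ⟨4, by push_cast; omega⟩
    have ht5 : ¬ 5 ∣ t := by
      rintro ⟨r, rfl⟩
      push_cast at ht
      have h6 : (5 : ℤ) ∣ s * (5 * r) := ⟨s * r, by ring⟩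
      have h7 := dvd_sub h6 ht
      simp at h7
    refine movedAt_of_pow (p := 5) hgx5 ht5 ?_
    have hp5 : ((q * F ^ s) ^ t) ^ 5 = 1 := by rw [← pow_mul, mul_comm, pow_mul, hgx5, one_pow]
    have h3 : ((q * F ^ s) ^ t) ^ 2 ≠ 1 := by
      intro h
      rw [← pow_mul] at h
      have h6 := orderOf_dvd_of_pow_eq_one h
      rw [← hs, ho] at h6
      rcases (Nat.Prime.dvd_mul Nat.prime_five).1 h6 with h7 | h7
      · exact ht5 h7
      · norm_num at h7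
    refine movedAt_of_real ?_ h3
    obtain ⟨q', hq', he⟩ := pow_form hq s t
    rw [he, zpow_eq F5 (i := s * t) (j := 1) ht, zpow_one] at hp5 ⊢
    obtain ⟨i, j, u, l, m, rfl⟩ := hq'
    obtain ⟨v, hv, he⟩ := exists_code i j u l m
    rw [he] at hp5 ⊢
    exact goodF v hv m hp5

end Cfsg.Agent.H285.HN5
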