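import Cfsg.Agent.H999.Ccp.Fi23Moved
import Cfsg.Agent.H838.SylFive
import Cfsg.Agent.BpSpor.Row.Fi23

/-!
# S4114: the row `Fi23` (helper285)
-/

set_option autoImplicit false

namespace Cfsg.Agent.H285.Ccp.FiTh

open Subgroup Cfsg Cfsg.Spor Cfsg.Agent.H520 Cfsg.Agent.H497.Stein

universe u

/-- **S4114**: one class of elements of order 5 -/
theorem moved_five [Finite Fi23] : Moved 5 Fi23 := by
  refine moved_of_one Nat.prime_five (by norm_num) fun x y hx hy => ?_
  have h : ∀ z : Fi23, orderOf z = 5 →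
      ∃ g : Fi23, g * z * g⁻¹ = Cfsg.Agent.LThreeFi23.elw Cfsg.Agent.LThreeFi23.y5 := by
    intro z hz
    refine Cfsg.Agent.H838.Fi23.Syl.conj_y5 (by rw [← hz, pow_orderOf_eq_one]) ?_
    rintro rfl
    rw [orderOf_one] at hz
    norm_num at hz
  obtain ⟨g, hg⟩ := h x hx
  obtain ⟨k, hk⟩ := h y hy
  exact (isConj_iff.2 ⟨g, hg⟩).trans (isConj_iff.2 ⟨k, hk⟩).symm

/-- **the row `Fi23` of S4114** -/
theorem row_Fi23 {G : Type u} [Group G] [Finite G] (h : Spor.IsoFi23 G) : Cfsg.Agent.H520.Row G := by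
  have D := BpSpor.Row.dat_fi23 h
  obtain ⟨e⟩ := h
  have hf : Finite Fi23 := Finite.of_equiv G e.toEquiv
  refine row_of_dat D (l := [(2, 18), (3, 13), (5, 2), (7, 1), (11, 1), (13, 1), (17, 1), (23, 1)])
    (by decide +kernel) (by norm_num) ?_
  intro x hx h2 hx2
  simp only [List.mem_cons, List.not_mem_nil, or_false] at hx
  rcases hx with rfl | rfl | rfl | rfl | rfl | rfl | rfl | rfl
  · exact absurd rfl hx2
  · exact Moved.congr e Cfsg.Agent.H999.Ccp.FiTh.moved_three
  · exact Moved.congr e moved_five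
  all_goals exact absurd h2 (by norm_num)

end Cfsg.Agent.H285.Ccp.FiTh
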