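import Cfsg.Agent.H285.Ccp.HNThree
import Cfsg.Agent.H285.Ccp.HNFive

/-!
# S4114: the row `HN` (helper285)
-/

set_option autoImplicit false

namespace Cfsg.Agent.H285.Ccp.HN

open Subgroup Cfsg Cfsg.Agent.H497.Stein

universe u

theorem inn_hn {K : Type u} [Group K] (h : Spor.IsoHN K) : Cfsg.Agent.BpSpor.Inn.OddInn K := by
  intro p hp hp2 α hα
  exact Cfsg.Agent.H256.OddInner.hn h α (by rw [hα]; exact hp.odd_of_ne_two hp2)

theorem dat_hn {K : Type u} [Group K] (h : Spor.IsoHN K) : BpSpor.Dat K 273030912000000 where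
  simple := by
    obtain ⟨e⟩ := h
    exact (MulEquiv.isSimpleGroup_congr e).2 Cfsg.Agent.S1701.result.1
  card := by
    obtain ⟨e⟩ := h
    rw [Nat.card_congr e.toEquiv, Cfsg.Agent.S1701.result.2]
  inn := inn_hn h

/-- **S4114, the row `HN`.** -/
theorem row_HN {G : Type u} [Group G] [Finite G] (h : Cfsg.Spor.IsoHN G) : Cfsg.Agent.H520.Row G := by
  have D := dat_hn h
  obtain ⟨e⟩ := h
  refine row_of_dat D (l := [(2, 14), (3, 6), (5, 6), (7, 1), (11, 1), (19, 1)])
    (by decide +kernel) (by norm_num) fun x hx hx2 hx3 => ?_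
  simp only [List.mem_cons, List.not_mem_nil, or_false] at hx
  rcases hx with rfl | rfl | rfl | rfl | rfl | rfl
  · exact absurd rfl hx3
  · exact Cfsg.Agent.H285.HN3.moved_three.congr e
  · exact Cfsg.Agent.H285.HN5.moved_five.congr e
  all_goals exact absurd hx2 (by norm_num)

end Cfsg.Agent.H285.Ccp.HN
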