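import Cfsg.Agent.H839.Rad.Extra
import Cfsg.Agent.HN.A12Group
import Cfsg.Agent.S1701

/-!
# A Sylow 3-subgroup of the Harada-Norton group: matrices (helper285, for S4114)

The generators `A, B, C₁, D` of the extraspecial group `Q = 3 ^ (1 + 4)` with centre `⟨W⟩`, an element `F` of order 3 normalising `Q`,
involutions `S`, `V`; all of them except for `C₁` are in the alternating group of degree 12 of `Cfsg.Agent.HN.A12`; everything is
checked in the 133-dimensional representation over the field with 31 elements (`chk`).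
-/

set_option autoImplicit false
set_option maxRecDepth 100000

namespace Cfsg.Agent.H285.HN3

open Cfsg.Agent.Lib.PackMat Cfsg.Agent.Lib.PackMatGroup Cfsg.Agent.Lib.PackMatMul Cfsg.Agent.HN.RepData
open Cfsg.Agent.HN.Rep (L LG gens rho)
open Cfsg.Agent.HN

/-- the straight line program -/
def prog : List (ℕ × List ℕ) := [
  (20, [21]),
  (9, [9]),
  (11, [11]),
  (10, [10]),
  (0, [12, 1, 11]),
  (9, [9]),
  (12, [12]),
  (1, [12, 0, 11]),
  (9, [9]),
  (12, [12]),
  (1, [12, 0, 11]),
  (6, [3, 0]),
  (7, [4]),
  (8, [8, 5]),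
  (4, [20, 11, 17]),
  (17, [17]),
  (0, [21, 14, 18]),
  (8, [21, 13, 18]),
  (3, [1, 0]),
  (19, [19]),
  (29, [28, 27, 25, 18, 14, 27, 13, 29, 0]),
  (29, [17, 29, 26, 15, 26, 23, 12, 23, 1]),
  (19, [28, 2, 23, 30, 44, 44, 46, 44, 44, 42, 48, 46, 44, 44, 28, 2, 23, 20]),
  (4, [4]),
  (10, [10]),
  (2, [2]),
  (26, [26]),
  (15, [15]),
  (15, [15]),
  (1, [17]),
  (6, [11]),
  (6, [17]),
  (6, [9]),
  (6, [33]),
  (5, [21]),
  (23, [16]),
  (17, [24]),
  (25, [23]),
  (24, [26]),
  (27, [16]),
  (17, [28]),
  (29, [41]),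
  (42, [30]),
  (24, [20]),
  (21, [25]),
  (26, [45]),
  (46, [27]),
  (33, [24]),
  (25, [34]),
  (35, [49]),
  (50, [36]),
  (38, [39]),
  (40, [39]),
  (40, [39]),
  (40, [41]),
  (42, [55]),
  (56, [43]),
  (36, [45]),
  (46, [37]),
  (38, [46]),
  (47, [39]),
  (39, [42]),
  (43, [40]),
  (41, [40]),
  (41, [42]),
  (46, [51]),
  (52, [47, 54]),
  (44, [67]),
  (68, [45, 56]),
  (48, [50]),
  (46, [49]),
  (50, [57]),
  (47, [51]),
  (52, [50]),
  (48, [53]),
  (54, [75]),
  (49, [55]),
  (55, [65]),
  (50, [56]),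
  (57, [66]),
  (51, [58]),
  (68, [62]),
  (63, [68, 70, 69]),
  (70, [60]),
  (61, [57, 56, 71])]

/-- the equalities -/
def es : List (ℕ × ℕ) := [(55, 84), (54, 84), (53, 84), (52, 84), (51, 84), (50, 84), (49, 48), (47, 46), (45, 44), (43, 42), (41, 40), (39, 38), (37, 36), (35, 34), (33, 32), (31, 30), (29, 28), (27, 26), (25, 24), (23, 22), (21, 20), (19, 18), (17, 16), (15, 14), (13, 12), (11, 10), (9, 8), (7, 6), (5, 4), (3, 2), (1, 0)]

/-- the inequality -/
def ns : List (ℕ × ℕ) := [(73, 84)]

theorem chk : checkS C prog es ns Cfsg.Agent.HN.A12Step.L20 = true := by decide +kernel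

/-- the start list in the matrix group -/
noncomputable def LG' : List (U C) := runG A12.ws LG

/-- the start list in the presented group -/
noncomputable def gens' : List Cfsg.Spor.HN := runG A12.ws gens

theorem sound : (∀ q ∈ es, (runG prog LG').getD q.1 1 = (runG prog LG').getD q.2 1) ∧
    (∀ q ∈ ns, (runG prog LG').getD q.1 1 ≠ (runG prog LG').getD q.2 1) :=
  checkS_sound (good_of_check Rep.good) A12.results chk (by decide)

theorem gens'_map : gens'.map rho = LG' := by
  unfold gens' LG'
  rw [← runG_map, Rep.gens_map]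

/-- the results in the presented group -/
noncomputable def R (i : ℕ) : Cfsg.Spor.HN := (runG prog gens').getD i 1

theorem rho_R (i : ℕ) : rho (R i) = (runG prog LG').getD i 1 := by
  unfold R
  rw [← gens'_map, runG_map, List.getD_eq_getElem?_getD, List.getD_eq_getElem?_getD, List.getElem?_map]
  cases (runG prog gens')[i]? with
  | none => simp
  | some b => simp

theorem eqR {i j : ℕ} (h : (i, j) ∈ es) : R i = R j := by
  have := Cfsg.Agent.S1701.result.1
  apply A12Group.rho_injective
  rw [rho_R, rho_R]
  exact sound.1 (i, j) h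

theorem neR {i j : ℕ} (h : (i, j) ∈ ns) : R i ≠ R j := by
  intro h1
  refine sound.2 (i, j) h ?_
  rw [← rho_R, ← rho_R, h1]

/-! ### The values of the results -/

/-- product -/
def evF {G : Type*} [Group G] (f : ℕ → G) : List ℕ → G
  | [] => 1
  | i :: w => f i * evF f w

theorem evG_eq {G : Type*} [Group G] (LG : List G) (f : ℕ → G) (h : ∀ m, LG.getD m 1 = f m) (w : List ℕ) :
    evG LG w = evF f w := by
  induction w with
  | nil => rfl
  | cons i w ih => rw [evG_cons, h, ih]; rfl

theorem runG_getD {G : Type*} [Group G] (ws : List (ℕ × List ℕ)) (LG : List G) (m : ℕ) :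
    (runG ws LG).getD (ws.length + m) 1 = LG.getD m 1 := by
  induction ws generalizing LG m with
  | nil => rw [List.length_nil, zero_add]; rfl
  | cons w ws ih =>
    rw [runG_cons, List.length_cons, show ws.length + 1 + m = ws.length + (m + 1) by ring, ih, List.getD_cons_succ]

theorem runG_step {G : Type*} [Group G] (ws : List (ℕ × List ℕ)) (LG : List G) (i : ℕ) (hi : i < ws.length) :
    (runG ws LG).getD i 1 = evF (fun m => (runG ws LG).getD (i + 1 + m) 1)
      ((ws.reverse.getD i (0, [])).1 :: (ws.reverse.getD i (0, [])).2) := by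
  induction ws generalizing LG with
  | nil => exact absurd hi (by simp)
  | cons w ws ih =>
    rw [List.length_cons] at hi
    rcases Nat.lt_succ_iff_lt_or_eq.1 hi with h | h
    · have h1 : (w :: ws).reverse.getD i (0, []) = ws.reverse.getD i (0, []) := by
        rw [List.reverse_cons, List.getD_eq_getElem?_getD, List.getD_eq_getElem?_getD, List.getElem?_append_left (by simpa using h)]
      rw [h1, runG_cons]
      exact ih _ h
    · have h1 : (w :: ws).reverse.getD i (0, []) = w := by
        rw [List.reverse_cons, List.getD_eq_getElem?_getD, List.getElem?_append_right (by simp [h])]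
        simp [h]
      rw [h1]
      have h2 : ∀ m, LG.getD m 1 = (runG (w :: ws) LG).getD (i + 1 + m) 1 := by
        intro m
        have h3 := runG_getD (w :: ws) LG m
        rw [List.length_cons, ← h] at h3
        exact h3.symm
      rw [← evG_eq LG _ h2, runG_cons]
      have h3 := runG_getD ws (evG LG (w.1 :: w.2) :: LG) 0
      rw [add_zero, ← h, List.getD_cons_zero] at h3
      exact h3

theorem stepR {i : ℕ} {w : List ℕ} (hi : i < prog.length)
    (hw : ((prog.reverse.getD i (0, [])).1 :: (prog.reverse.getD i (0, [])).2) = w) :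
    R i = evF (fun m => R (i + 1 + m)) w := by
  rw [← hw]
  exact runG_step prog gens' i hi

theorem genR (m : ℕ) : R (prog.length + (A12.ws.length + m)) = gens.getD m 1 := by
  have h1 := runG_getD prog gens' (A12.ws.length + m)
  have h2 := runG_getD A12.ws gens m
  exact h1.trans h2

end Cfsg.Agent.H285.HN3
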