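import Cfsg.Agent.H520.CcpCfg

/-!
# S4114: a permuted simple factor (helper285)

* `Mv α f k β` : `f : G →* Q` is the projection to a factor of the direct product `G = Q^k` permuted by `α`, `β` the
  automorphism of `Q` induced by `α ^ k`;
* `exists_mv` : existence for a moved simple normal subgroup of a group without proper invariant normal subgroups;
* `Mv.ccp`, `Mv.solv`, `Mv.prod_one` : `CCP β`; the proper `β`-invariant subgroups are solvable; if `β = 1` then no product
  of `k` conjugates of `c ≠ 1` is trivial.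
-/

set_option autoImplicit false
set_option linter.unusedSectionVars false

namespace Cfsg.Agent.H285.Ccp

open Subgroup Cfsg.Agent.H520 Cfsg.Agent.H566

universe u

/-- `f` is the projection to a factor permuted by `α`, `β` is induced by `α ^ k`. -/
structure Mv {G : Type*} [Group G] {Q : Type*} [Group Q] (α : MulAut G) (f : G →* Q) (k : ℕ) (β : MulAut Q) : Prop where
  k2 : 2 ≤ k
  surj : ∀ q : Q, ∃ t : G, f t = q ∧ ∀ i : ℤ, ¬ (k : ℤ) ∣ i → f ((α ^ i : MulAut G) t) = 1
  eqv : ∀ g : G, f ((α ^ k : MulAut G) g) = β (f g)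
  inj : ∀ g : G, (∀ i : ℤ, f ((α ^ i : MulAut G) g) = 1) → g = 1

namespace Mv

variable {G : Type*} [Group G] {Q : Type*} [Group Q] {α : MulAut G} {f : G →* Q} {k : ℕ} {β : MulAut Q}

/-- The automorphism induced on the factor satisfies `CCP`. -/
theorem ccp (h : Mv α f k β) (hα : CCP α) : CCP β := by
  intro q
  obtain ⟨t, ht, ht1⟩ := h.surj q
  obtain ⟨c, g, hc, e⟩ := hα t
  have hci : ∀ i : ℕ, (α ^ i : MulAut G) c = c := by
    intro i
    induction i with
    | zero => rfl
    | succ i ih => rw [pow_succ', MulAut.mul_apply, ih, hc]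
  -- the components
  have hcomp : ∀ i : ℕ, f ((α ^ i : MulAut G) t) =
      f c * ((f ((α ^ i : MulAut G) g))⁻¹ * f ((α ^ (i + 1) : MulAut G) g)) := by
    intro i
    have h1 : (α ^ i : MulAut G) (α g) = (α ^ (i + 1) : MulAut G) g := by
      rw [pow_succ, MulAut.mul_apply]
    rw [e, map_mul, map_mul, hci, map_mul, map_mul, map_inv, map_inv, h1]
  have h0 : q = f c * ((f g)⁻¹ * f ((α ^ 1 : MulAut G) g)) := by
    have h1 := hcomp 0
    rw [pow_zero, MulAut.one_apply, MulAut.one_apply, ht] at h1
    exact h1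
  have hstep : ∀ i : ℕ, 1 ≤ i → i < k → f ((α ^ (i + 1) : MulAut G) g) = f ((α ^ i : MulAut G) g) * (f c)⁻¹ := by
    intro i hi hik
    have h1 := hcomp i
    have h2 : f ((α ^ i : MulAut G) t) = 1 := by
      have h3 := ht1 (i : ℤ) (by
        intro hd
        have h4 := Int.natCast_dvd_natCast.1 hd
        exact absurd (Nat.le_of_dvd hi h4) (not_le.2 hik))
      rwa [zpow_natCast] at h3
    rw [h2] at h1
    have h3 : (f c)⁻¹ = (f ((α ^ i : MulAut G) g))⁻¹ * f ((α ^ (i + 1) : MulAut G) g) := by
      rw [eq_comm, ← inv_eq_iff_mul_eq_one.2 h1.symm]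
    rw [h3, mul_inv_cancel_left]
  have hall : ∀ j : ℕ, j < k → f ((α ^ (1 + j) : MulAut G) g) = f ((α ^ 1 : MulAut G) g) * ((f c)⁻¹) ^ j := by
    intro j
    induction j with
    | zero => intro _; rw [pow_zero, mul_one]
    | succ j ih =>
      intro hj
      rw [show 1 + (j + 1) = (1 + j) + 1 from rfl, hstep (1 + j) (by omega) (by omega), ih (by omega), mul_assoc,
        ← pow_succ ((f c)⁻¹)]
  have hk := h.k2
  have hlast := hall (k - 1) (by omega)
  rw [show 1 + (k - 1) = k from by omega, h.eqv] at hlast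
  -- `β (f g) = f (α g) c^{-(k-1)}`
  have hβc : β (f c) = f c := by
    rw [← h.eqv, hci]
  refine ⟨(f c) ^ k, f g * (f c) ^ (k - 1), ?_, ?_⟩
  · rw [map_pow, hβc]
  · rw [map_mul, map_pow, hβc, hlast, h0]
    have h1 : (f c) ^ k = f c * (f c) ^ (k - 1) := by
      rw [← pow_succ']
      congr 1
      omega
    rw [h1, inv_pow]
    group

variable [Finite G]

/-- The iterates of `β`. -/
theorem eqv_pow (h : Mv α f k β) (j : ℕ) (g : G) : f ((α ^ (k * j) : MulAut G) g) = (β ^ j : MulAut Q) (f g) := by
  induction j generalizing g with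
  | zero => rfl
  | succ j ih =>
    rw [Nat.mul_succ, pow_add, MulAut.mul_apply, ih, h.eqv, pow_succ, MulAut.mul_apply]

/-- The proper invariant subgroups of the factor are solvable. -/
theorem solv (h : Mv α f k β) (hsub : ∀ M : Subgroup G, M ≠ ⊤ → (∀ m ∈ M, α m ∈ M) → Group.IsSolvable (cM α M))
    {M : Subgroup Q} (hMt : M ≠ ⊤) (hM : ∀ m ∈ M, β m ∈ M) : Group.IsSolvable M := by
  let W : Subgroup G := ⨅ i : ℕ, M.comap (f.comp (α ^ i : MulAut G).toMonoidHom)
  have hW : ∀ g : G, g ∈ W ↔ ∀ i : ℕ, f ((α ^ i : MulAut G) g) ∈ M := by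
    intro g
    simp only [W, mem_iInf]
    rfl
  have hWi : ∀ g ∈ W, α g ∈ W := by
    intro g hg
    rw [hW] at hg ⊢
    intro i
    have h1 := hg (i + 1)
    rwa [pow_succ, MulAut.mul_apply] at h1
  have hWt : W ≠ ⊤ := by
    intro hc
    apply hMt
    rw [eq_top_iff]
    intro q _
    obtain ⟨t, ht, -⟩ := h.surj q
    have h1 : t ∈ W := by rw [hc]; trivial
    have h2 := (hW t).1 h1 0
    rw [← ht]
    exact h2
  have hsol := hsub W hWt hWi
  have hβj : ∀ j : ℕ, ∀ m ∈ M, (β ^ j : MulAut Q) m ∈ M := by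
    intro j
    induction j with
    | zero => intro m hm; exact hm
    | succ j ih =>
      intro m hm
      rw [pow_succ', MulAut.mul_apply]
      exact hM _ (ih m hm)
  have hle : M ≤ (cM α W).map f := by
    intro m hm
    obtain ⟨t, ht, ht1⟩ := h.surj m
    have htW : t ∈ W := by
      rw [hW]
      intro i
      by_cases hd : k ∣ i
      · obtain ⟨j, rfl⟩ := hd
        rw [h.eqv_pow, ht]
        exact hβj j m hm
      · have h3 := ht1 (i : ℤ) (fun hd' => hd (Int.natCast_dvd_natCast.1 hd'))
        rw [zpow_natCast] at h3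
        rw [h3]
        exact one_mem M
    refine ⟨(t⁻¹)⁻¹ * α t⁻¹, mem_cM α (inv_mem htW), ?_⟩
    have h1 : f (α t) = 1 := by
      have h2 := ht1 1 (by
        intro hd
        have h3 := Int.le_of_dvd one_pos hd
        have h4 := h.k2
        omega)
      rwa [zpow_one] at h2
    rw [map_mul, map_inv, map_inv, map_inv, map_inv, h1, ht]
    simp
  have h2 : Group.IsSolvable ((cM α W).map f) :=
    Group.isSolvable_of_surjective (f := f.subgroupMap (cM α W)) (f.subgroupMap_surjective _)
  exact Group.isSolvable_of_isSolvable_injective (f := inclusion hle) (inclusion_injective hle)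

/-- Elements with given components. -/
theorem exists_elem (h : Mv α f k β) (q : ℕ → Q) : ∃ g : G, ∀ i : ℕ, i < k → f ((α ^ i : MulAut G) g) = q i := by
  have key : ∀ n : ℕ, n ≤ k → ∃ g : G, (∀ i : ℕ, i < n → f ((α ^ i : MulAut G) g) = q i) ∧
      ∀ i : ℕ, n ≤ i → i < k → f ((α ^ i : MulAut G) g) = 1 := by
    intro n
    induction n with
    | zero =>
      intro _
      refine ⟨1, ?_, ?_⟩
      · intro i hi
        exact absurd hi (Nat.not_lt_zero i)
      · intro i _ _
        rw [map_one, map_one]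
    | succ n ih =>
      intro hn
      obtain ⟨g, hg1, hg2⟩ := ih (by omega)
      obtain ⟨t, ht, ht1⟩ := h.surj (q n)
      have hcomp : ∀ i : ℕ, f ((α ^ i : MulAut G) (g * (α ^ (-(n : ℤ)) : MulAut G) t)) =
          f ((α ^ i : MulAut G) g) * f ((α ^ ((i : ℤ) - n) : MulAut G) t) := by
        intro i
        rw [map_mul, map_mul]
        congr 2
        rw [← zpow_natCast, ← MulAut.mul_apply, ← zpow_add]
        rfl
      have hone : ∀ i : ℕ, i < k → i ≠ n → f ((α ^ ((i : ℤ) - n) : MulAut G) t) = 1 := by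
        intro i hi hin
        apply ht1
        intro hd
        rcases lt_or_gt_of_ne hin with h1 | h1
        · have h2 : (k : ℤ) ∣ (n : ℤ) - i := by
            have h3 := (dvd_neg (a := (k : ℤ))).2 hd
            rwa [neg_sub] at h3
          have h3 := Int.le_of_dvd (by omega) h2
          omega
        · have h3 := Int.le_of_dvd (by omega) hd
          omega
      refine ⟨g * (α ^ (-(n : ℤ)) : MulAut G) t, ?_, ?_⟩
      · intro i hi
        rw [hcomp]
        rcases Nat.lt_succ_iff_lt_or_eq.1 hi with h1 | h1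
        · rw [hg1 i h1, hone i (by omega) h1.ne, mul_one]
        · subst h1
          rw [hg2 i le_rfl (by omega), sub_self, zpow_zero, MulAut.one_apply, ht, one_mul]
      · intro i hi hik
        rw [hcomp, hg2 i (by omega) hik, hone i hik (by omega), mul_one]
  obtain ⟨g, hg, -⟩ := key k le_rfl
  exact ⟨g, hg⟩

/-- `β = 1`: the components are periodic. -/
theorem period (h : Mv α f k 1) (j : ℤ) (g : G) : f ((α ^ (k * j) : MulAut G) g) = f g := by
  let S : Subgroup (MulAut G) :=
    { carrier := {φ | ∀ g : G, f (φ g) = f g}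
      one_mem' := fun g => rfl
      mul_mem' := by
        intro a b ha hb g
        rw [MulAut.mul_apply, ha, hb]
      inv_mem' := by
        intro a ha g
        have h1 := ha (a⁻¹ g)
        rw [MulAut.apply_inv_self] at h1
        exact h1.symm }
  have h1 : α ^ k ∈ S := fun g => h.eqv g
  have h2 : (α ^ k) ^ j ∈ S := zpow_mem h1 j
  have h3 : (α ^ (k * j) : MulAut G) = (α ^ k) ^ j := by
    rw [zpow_mul, zpow_natCast]
  rw [h3]
  exact h2 g

/-- `β = 1`: the first `k` components determine the element. -/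
theorem ext_of (h : Mv α f k 1) {g g' : G} (he : ∀ i : ℕ, i < k → f ((α ^ i : MulAut G) g) = f ((α ^ i : MulAut G) g')) :
    g = g' := by
  have hk := h.k2
  rw [← inv_mul_eq_one]
  apply h.inj
  intro i
  have hk0 : (0 : ℤ) < k := by omega
  have h1 : ∀ x : G, f ((α ^ i : MulAut G) x) = f ((α ^ (i % k).toNat : MulAut G) x) := by
    intro x
    have h2 : (α ^ i : MulAut G) = α ^ ((k : ℤ) * (i / k)) * α ^ (i % k).toNat := by
      rw [← zpow_natCast, ← zpow_add, Int.toNat_of_nonneg (Int.emod_nonneg i hk0.ne'), Int.mul_ediv_add_emod]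
    rw [h2, MulAut.mul_apply, h.period]
  have h2 : (i % k).toNat < k := by
    have h3 := Int.emod_lt_of_pos i hk0
    have h4 := Int.emod_nonneg i hk0.ne'
    omega
  rw [map_mul, map_mul, map_inv, map_inv, h1 g, h1 g', he _ h2, inv_mul_cancel]

/-- `β = 1`: no product of `k` conjugates of an element `c ≠ 1` is trivial. -/
theorem prod_one (h : Mv α f k 1) (hα : CCP α) {c : Q} (x : ℕ → Q)
    (hp : ((List.range k).map fun j => (x j)⁻¹ * c * x j).prod = 1) : c = 1 := by
  have hk := h.k2
  obtain ⟨c', hc'⟩ := h.exists_elem (fun _ => c)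
  obtain ⟨x', hx'⟩ := h.exists_elem x
  obtain ⟨g', hg'⟩ := h.exists_elem (fun i => ((List.range i).map fun j => (x j)⁻¹ * c * x j).prod)
  have hshift : ∀ (i : ℕ) (y : G), f ((α ^ i : MulAut G) (α y)) = f ((α ^ (i + 1) : MulAut G) y) := by
    intro i y
    rw [pow_succ, MulAut.mul_apply]
  have hlast : ∀ y : G, f ((α ^ k : MulAut G) y) = f ((α ^ 0 : MulAut G) y) := by
    intro y
    have h1 := h.period 1 y
    rwa [mul_one, zpow_natCast] at h1
  have hfix : α c' = c' := by
    apply h.ext_of
    intro i hi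
    rw [hshift, hc' i hi]
    rcases Nat.lt_or_ge (i + 1) k with h1 | h1
    · exact hc' _ h1
    · rw [show i + 1 = k from by omega, hlast]
      exact hc' 0 (by omega)
  have hg1 : ∀ i : ℕ, i < k → f ((α ^ (i + 1) : MulAut G) g') =
      ((List.range (i + 1)).map fun j => (x j)⁻¹ * c * x j).prod := by
    intro i hi
    rcases Nat.lt_or_ge (i + 1) k with h1 | h1
    · exact hg' _ h1
    · rw [show i + 1 = k from by omega, hlast, hg' 0 (by omega), hp]
      rfl
  have he : x' * (g'⁻¹ * α g') * x'⁻¹ = c' := by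
    apply h.ext_of
    intro i hi
    rw [map_mul, map_mul, map_mul, map_mul, map_mul, map_mul, map_inv, map_inv, map_inv, map_inv, hshift, hx' i hi,
      hg' i hi, hg1 i hi, hc' i hi, List.range_succ, List.map_append, List.prod_append]
    simp only [List.map_cons, List.map_nil, List.prod_cons, List.prod_nil, mul_one]
    group
  have h1 := hα.not_conj hfix he
  have h2 := hc' 0 (by omega)
  rw [h1, map_one, map_one] at h2
  exact h2.symm

end Mv

/-- **Existence of the projection** for a moved simple normal subgroup. -/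
theorem exists_mv {G : Type u} [Group G] [Finite G] {α : MulAut G}
    (hmin : ∀ M : Subgroup G, M.Normal → (∀ m ∈ M, α m ∈ M) → M = ⊥ ∨ M = ⊤) {T : Subgroup G} (hT : T ∈ NSim G)
    (hm : T.map α.toMonoidHom ≠ T) :
    ∃ (Q : Type u) (_ : Group Q) (_ : Finite Q) (f : G →* Q) (k : ℕ) (β : MulAut Q),
      IsSimpleGroup Q ∧ (¬ ∀ a b : Q, a * b = b * a) ∧ Mv α f k β := by
  classical
  have hTn := hT.1
  -- the period
  have hfin : ∃ k : ℕ, 0 < k ∧ T.map (α ^ k : MulAut G).toMonoidHom = T := by
    refine ⟨orderOf α, orderOf_pos α, ?_⟩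
    rw [pow_orderOf_eq_one]
    exact Subgroup.map_id T
  let k := Nat.find hfin
  obtain ⟨hk0, hkT⟩ : 0 < k ∧ T.map (α ^ k : MulAut G).toMonoidHom = T := Nat.find_spec hfin
  have hkmin : ∀ j : ℕ, j < k → 0 < j → T.map (α ^ j : MulAut G).toMonoidHom ≠ T :=
    fun j hj h0 h1 => Nat.find_min hfin hj ⟨h0, h1⟩
  have hk2 : 2 ≤ k := by
    by_contra hc
    have h1 : k = 1 := by omega
    rw [h1, pow_one] at hkT
    exact hm hkT
  -- the stabiliser
  let S : Subgroup (MulAut G) :=
    { carrier := {φ | T.map φ.toMonoidHom = T}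
      one_mem' := Subgroup.map_id T
      mul_mem' := by
        intro a b ha hb
        have h1 : T.map (a * b).toMonoidHom = (T.map b.toMonoidHom).map a.toMonoidHom := by
          rw [Subgroup.map_map]; rfl
        show T.map (a * b).toMonoidHom = T
        rw [h1, show T.map b.toMonoidHom = T from hb]
        exact ha
      inv_mem' := by
        intro a ha
        have h1 : (T.map a.toMonoidHom).map (a⁻¹).toMonoidHom = T := by
          rw [Subgroup.map_map]
          have h2 : (a⁻¹).toMonoidHom.comp a.toMonoidHom = MonoidHom.id G := by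
            ext x
            show a⁻¹ (a x) = x
            exact MulAut.inv_apply_self G a x
          rw [h2, Subgroup.map_id]
        show T.map (a⁻¹).toMonoidHom = T
        conv_lhs => rw [← show T.map a.toMonoidHom = T from ha]
        exact h1 }
  have hdvd : ∀ i : ℤ, T.map (α ^ i : MulAut G).toMonoidHom = T → (k : ℤ) ∣ i := by
    intro i hi
    have hkz : (0 : ℤ) < k := by omega
    have h1 : (α ^ i : MulAut G) ∈ S := hi
    have h2 : (α ^ k : MulAut G) ∈ S := hkT
    have h3 : (α ^ (i % k).toNat : MulAut G) ∈ S := by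
      have h4 : (α ^ (i % k).toNat : MulAut G) = α ^ i * ((α ^ k) ^ (i / k))⁻¹ := by
        rw [← zpow_natCast, ← zpow_natCast α k, ← zpow_mul, ← zpow_neg, ← zpow_add,
          Int.toNat_of_nonneg (Int.emod_nonneg i hkz.ne'), Int.emod_def]
        rfl
      rw [h4]
      exact mul_mem h1 (inv_mem (zpow_mem h2 _))
    have h4 : (i % k).toNat < k := by
      have h5 := Int.emod_lt_of_pos i hkz
      have h6 := Int.emod_nonneg i hkz.ne'
      omega
    have h5 : (i % k).toNat = 0 := by
      by_contra h6
      exact hkmin _ h4 (Nat.pos_of_ne_zero h6) h3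
    have h6 := Int.emod_nonneg i hkz.ne'
    exact Int.dvd_of_emod_eq_zero (by omega)
  -- the centraliser
  have hCT : ∀ φ : MulAut G, T.map φ.toMonoidHom ≠ T → ∀ t ∈ T, φ t ∈ centralizer (T : Set G) := by
    intro φ hφ t ht
    rw [mem_centralizer_iff]
    intro s hs
    exact (NSim.comm (NSim.map hT φ) hT hφ (mem_map_of_mem _ ht) hs).symm
  have hinjT : ∀ t ∈ T, t ∈ centralizer (T : Set G) → t = 1 := by
    intro t ht h2
    have h3 : (T ⊓ centralizer (T : Set G)).Normal := inferInstance
    rcases NSim.eq_or hT h3 inf_le_left with h4 | h4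
    · have : t ∈ T ⊓ centralizer (T : Set G) := ⟨ht, h2⟩
      rwa [h4, mem_bot] at this
    · exfalso
      apply hT.2.2
      intro a ha b hb
      exact mem_centralizer_iff.1 (inf_eq_left.1 h4 hb) a ha
  have hkinv : ∀ t ∈ T, (α ^ k : MulAut G) t ∈ T := by
    intro t ht
    rw [← hkT]
    exact mem_map_of_mem _ ht
  have hN : ∀ m ∈ centralizer (T : Set G), (α ^ k : MulAut G) m ∈ centralizer (T : Set G) :=
    centralizer_inv (α ^ k) hkinv
  -- `G = T C(T)`
  have hsup : ∀ g : G, ∃ t ∈ T, t⁻¹ * g ∈ centralizer (T : Set G) := by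
    let J : Subgroup G := ⨆ i : ℕ, T.map (α ^ i : MulAut G).toMonoidHom
    have hJn : J.Normal := by
      have h1 : ∀ i : ℕ, (T.map (α ^ i : MulAut G).toMonoidHom).Normal := fun i => (NSim.map hT (α ^ i)).1
      constructor
      intro n hn g
      have h2 : J.map (MulAut.conj g).toMonoidHom = J := by
        show (⨆ i : ℕ, T.map (α ^ i : MulAut G).toMonoidHom).map _ = _
        rw [Subgroup.map_iSup]
        apply iSup_congr
        intro i
        exact Subgroup.normal_iff_map_conj_eq.1 (h1 i) g
      rw [← h2]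
      exact ⟨n, hn, rfl⟩
    have hJi : ∀ m ∈ J, α m ∈ J := by
      have h1 : J.map α.toMonoidHom ≤ J := by
        show (⨆ i : ℕ, T.map (α ^ i : MulAut G).toMonoidHom).map _ ≤ _
        rw [Subgroup.map_iSup, iSup_le_iff]
        intro i
        rw [Subgroup.map_map]
        exact le_iSup (fun i : ℕ => T.map (α ^ i : MulAut G).toMonoidHom) (i + 1) |>.trans' (le_of_eq (by
          rw [pow_succ']
          rfl))
      intro m hm
      exact h1 (mem_map_of_mem _ hm)
    have hTJ : T ≤ J := by
      refine le_iSup (fun i : ℕ => T.map (α ^ i : MulAut G).toMonoidHom) 0 |>.trans' (le_of_eq ?_)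
      rw [pow_zero]
      exact (Subgroup.map_id T).symm
    have hJt : J = ⊤ := by
      rcases hmin J hJn hJi with h1 | h1
      · exfalso
        apply hT.2.2
        intro a ha b hb
        have ha' := hTJ ha
        have hb' := hTJ hb
        rw [h1, mem_bot] at ha' hb'
        rw [ha', hb']
      · exact h1
    have hJle : J ≤ T ⊔ centralizer (T : Set G) := by
      refine iSup_le fun i => ?_
      by_cases h1 : T.map (α ^ i : MulAut G).toMonoidHom = T
      · rw [h1]
        exact le_sup_left
      · refine le_trans ?_ le_sup_right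
        rintro _ ⟨t, ht, rfl⟩
        exact hCT _ h1 t ht
    intro g
    have h1 : g ∈ T ⊔ centralizer (T : Set G) := hJle (by rw [hJt]; trivial)
    obtain ⟨t, ht, c, hc, rfl⟩ := mem_sup_of_normal_left.1 h1
    exact ⟨t, ht, by rwa [inv_mul_cancel_left]⟩
  let f : G →* G ⧸ centralizer (T : Set G) := QuotientGroup.mk' _
  have hf1 : ∀ g : G, f g = 1 ↔ g ∈ centralizer (T : Set G) := fun g => QuotientGroup.eq_one_iff g
  have hfsurj : ∀ q : G ⧸ centralizer (T : Set G), ∃ t ∈ T, f t = q := by
    intro q
    obtain ⟨g, rfl⟩ := QuotientGroup.mk_surjective q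
    obtain ⟨t, ht, h1⟩ := hsup g
    exact ⟨t, ht, QuotientGroup.eq.2 h1⟩
  -- `T ≃ Q`
  have hbij : Function.Bijective (f.comp T.subtype) := by
    constructor
    · rw [injective_iff_map_eq_one]
      intro t ht
      exact Subtype.ext (hinjT t t.2 ((hf1 _).1 ht))
    · intro q
      obtain ⟨t, ht, h1⟩ := hfsurj q
      exact ⟨⟨t, ht⟩, h1⟩
  let e : ↥T ≃* G ⧸ centralizer (T : Set G) := MulEquiv.ofBijective _ hbij
  have hTs := hT.2.1
  refine ⟨G ⧸ centralizer (T : Set G), inferInstance, inferInstance, f, k,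
    quoA (α ^ k) (centralizer (T : Set G)) hN, e.symm.isSimpleGroup, ?_, ?_⟩
  · intro hc
    apply hT.2.2
    intro a ha b hb
    have h1 : (⟨a, ha⟩ : ↥T) * ⟨b, hb⟩ = ⟨b, hb⟩ * ⟨a, ha⟩ := by
      apply e.injective
      rw [map_mul, map_mul]
      exact hc _ _
    exact congrArg Subtype.val h1
  · refine ⟨hk2, ?_, fun g => rfl, ?_⟩
    · intro q
      obtain ⟨t, ht, h1⟩ := hfsurj q
      refine ⟨t, h1, fun i hi => ?_⟩
      rw [hf1]
      exact hCT _ (fun h2 => hi (hdvd i h2)) t ht
    · -- the common kernel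
      let N : Subgroup G := ⨅ i : ℤ, f.ker.comap (α ^ i : MulAut G).toMonoidHom
      have hNm : ∀ g : G, g ∈ N ↔ ∀ i : ℤ, f ((α ^ i : MulAut G) g) = 1 := by
        intro g
        simp only [N, mem_iInf]
        rfl
      have hNn : N.Normal := by
        constructor
        intro n hn g
        rw [hNm] at hn ⊢
        intro i
        rw [map_mul, map_mul, map_inv, map_mul, map_mul, map_inv, hn i]
        group
      have hNi : ∀ m ∈ N, α m ∈ N := by
        intro m hm
        rw [hNm] at hm ⊢
        intro i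
        have h1 := hm (i + 1)
        rwa [zpow_add_one, MulAut.mul_apply] at h1
      have hNb : N = ⊥ := by
        rcases hmin N hNn hNi with h1 | h1
        · exact h1
        · exfalso
          apply hT.2.2
          intro a ha b hb
          have h2 : b ∈ N := by rw [h1]; trivial
          have h3 := (hNm b).1 h2 0
          rw [zpow_zero, MulAut.one_apply, hf1] at h3
          exact mem_centralizer_iff.1 h3 a ha
      intro g hg
      have h1 : g ∈ N := (hNm g).2 hg
      rwa [hNb, mem_bot] at h1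

end Cfsg.Agent.H285.Ccp
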