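import Cfsg.Agent.H285.Ccp.Red
import Cfsg.Agent.LieRecognition.SzMatrix

/-!
# Pure four-groups of the groups `PSL(2, F)`, `PSL(3, 3)` and `Sz` (helper285)
-/

set_option autoImplicit false

namespace Cfsg.Agent.H285.Ccp

open Matrix

/-- a criterion in the covering group -/
theorem pure_of {S : Type*} [Group S] {C C1 C2 H K : S} (hC : C ∉ Subgroup.center S)
    (hCC : C * C ∈ Subgroup.center S) (h1 : C * H = H * C1) (h2 : C * K = K * C2)
    (h3 : C * C1 * C2 ∈ Subgroup.center S) : Pure (S ⧸ Subgroup.center S) := by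
  have e1 : H⁻¹ * C * H = C1 := by rw [mul_assoc, h1, inv_mul_cancel_left]
  have e2 : K⁻¹ * C * K = C2 := by rw [mul_assoc, h2, inv_mul_cancel_left]
  let π : S →* S ⧸ Subgroup.center S := QuotientGroup.mk' _
  have hπ : ∀ x : S, π x = 1 ↔ x ∈ Subgroup.center S := fun x => QuotientGroup.eq_one_iff x
  refine ⟨π C, π H, π K, fun h => hC ((hπ C).1 h), ?_, ?_⟩
  · rw [← map_mul, hπ]
    exact hCC
  · rw [← map_inv, ← map_inv, ← map_mul, ← map_mul, ← map_mul, ← map_mul, ← map_mul, ← map_mul, e1, e2, hπ]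
    exact h3

section Gen

variable {n : ℕ} {F : Type*} [Field F]

theorem ext1 {A B C : SpecialLinearGroup (Fin n) F} (h : A.1 * B.1 = C.1) : A * B = C := Subtype.ext h

theorem ext2 {A B C D : SpecialLinearGroup (Fin n) F} (h : A.1 * B.1 = C.1 * D.1) : A * B = C * D := Subtype.ext h

theorem smul_mem_center {A : SpecialLinearGroup (Fin n) F} (h : ∃ c : F, A.1 = c • (1 : Matrix (Fin n) (Fin n) F)) :
    A ∈ Subgroup.center (SpecialLinearGroup (Fin n) F) := by
  obtain ⟨c, h⟩ := h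
  rw [Subgroup.mem_center_iff]
  intro B
  apply ext2
  rw [h, Matrix.mul_smul, Matrix.smul_mul, mul_one, one_mul]

theorem notMem_center {A B : SpecialLinearGroup (Fin n) F} (i j : Fin n) (h : (A.1 * B.1) i j ≠ (B.1 * A.1) i j) :
    A ∉ Subgroup.center (SpecialLinearGroup (Fin n) F) := by
  intro hc
  rw [Subgroup.mem_center_iff] at hc
  exact h (congrArg (fun C : SpecialLinearGroup (Fin n) F => C.1 i j) (hc B).symm)

end Gen

section Two

variable {F : Type*} [Field F]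

/-- upper unitriangular matrices -/
def uu (x : F) : SpecialLinearGroup (Fin 2) F := ⟨!![1, x; 0, 1], by simp [Matrix.det_fin_two]⟩

/-- diagonal matrices -/
def dd (x : F) (hx : x ≠ 0) : SpecialLinearGroup (Fin 2) F := ⟨!![x⁻¹, 0; 0, x], by simp [Matrix.det_fin_two, hx]⟩

theorem uu_mul (x y : F) : uu x * uu y = uu (x + y) := by
  apply ext1
  show !![1, x; 0, 1] * !![1, y; 0, 1] = !![1, x + y; 0, 1]
  ext i j
  fin_cases i <;> fin_cases j <;> simp [Matrix.mul_apply, Fin.sum_univ_two, add_comm]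

theorem uu_zero : uu (0 : F) = 1 := by
  apply Subtype.ext
  show !![(1 : F), 0; 0, 1] = 1
  ext i j
  fin_cases i <;> fin_cases j <;> simp

theorem uu_mul_dd (x : F) (hx : x ≠ 0) : uu 1 * dd x hx = dd x hx * uu (x * x) := by
  apply ext2
  show !![(1 : F), 1; 0, 1] * !![x⁻¹, 0; 0, x] = !![x⁻¹, 0; 0, x] * !![1, x * x; 0, 1]
  ext i j
  fin_cases i <;> fin_cases j <;> simp [Matrix.mul_apply, Fin.sum_univ_two, hx]

/-- characteristic two -/
theorem pure_psl2_even (h2 : (2 : F) = 0) (hsq : ∀ x : F, ∃ y : F, y * y = x) (ht : ∃ t : F, t ≠ 0 ∧ t ≠ 1) :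
    Pure (Matrix.ProjectiveSpecialLinearGroup (Fin 2) F) := by
  obtain ⟨t, ht0, ht1⟩ := ht
  obtain ⟨s, hs⟩ := hsq t
  obtain ⟨r, hr⟩ := hsq (1 + t)
  have hneg : ∀ x : F, x + x = 0 := fun x => by linear_combination x * h2
  have hs0 : s ≠ 0 := by
    rintro rfl
    rw [mul_zero] at hs
    exact ht0 hs.symm
  have hr0 : r ≠ 0 := by
    rintro rfl
    rw [mul_zero] at hr
    apply ht1
    linear_combination (-1 : F) * hr - h2
  refine pure_of (C := uu 1) (C1 := uu t) (C2 := uu (1 + t)) (H := dd s hs0) (K := dd r hr0) ?_ ?_ ?_ ?_ ?_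
  · refine notMem_center (B := ⟨!![1, 0; 1, 1], by simp [Matrix.det_fin_two]⟩) 0 0 ?_
    show (!![(1 : F), 1; 0, 1] * !![1, 0; 1, 1] : Matrix (Fin 2) (Fin 2) F) 0 0 ≠
      (!![1, 0; 1, 1] * !![(1 : F), 1; 0, 1] : Matrix (Fin 2) (Fin 2) F) 0 0
    simp [Matrix.mul_apply, Fin.sum_univ_two]
  · rw [uu_mul, hneg, uu_zero]
    exact one_mem _
  · rw [uu_mul_dd, hs]
  · rw [uu_mul_dd, hr]
  · rw [uu_mul, uu_mul, hneg, uu_zero]
    exact one_mem _

/-- odd characteristic -/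
theorem pure_psl2_odd (h2 : (2 : F) ≠ 0) (hsum : ∀ c : F, ∃ x y : F, x * x + y * y = c) :
    Pure (Matrix.ProjectiveSpecialLinearGroup (Fin 2) F) := by
  obtain ⟨a, b, hab⟩ := hsum (-1)
  obtain ⟨x, y, hxy⟩ := hsum (2⁻¹)
  have hxy2 : 2 * (x * x + y * y) = 1 := by rw [hxy, mul_inv_cancel₀ h2]
  refine pure_of (C := ⟨!![0, 1; -1, 0], by simp [Matrix.det_fin_two]⟩)
    (C1 := ⟨!![a, b; b, -a], by rw [Matrix.det_fin_two_of]; linear_combination (-1 : F) * hab⟩)
    (C2 := ⟨!![b, -a; -a, -b], by rw [Matrix.det_fin_two_of]; linear_combination (-1 : F) * hab⟩)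
    (H := ⟨!![x * a + y * (b - 1), x * (1 + b) - y * a; -(y * a) + x * (b - 1), -(y * (1 + b)) - x * a], by
      rw [Matrix.det_fin_two_of]; linear_combination hxy2 - (x * x + y * y) * hab⟩)
    (K := ⟨!![x * b + y * (-1 - a), x * (1 - a) - y * b; -(y * b) + x * (-1 - a), -(y * (1 - a)) - x * b], by
      rw [Matrix.det_fin_two_of]; linear_combination hxy2 - (x * x + y * y) * hab⟩) ?_ ?_ ?_ ?_ ?_
  · refine notMem_center (B := ⟨!![1, 0; 1, 1], by simp [Matrix.det_fin_two]⟩) 0 0 ?_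
    show (!![(0 : F), 1; -1, 0] * !![1, 0; 1, 1] : Matrix (Fin 2) (Fin 2) F) 0 0 ≠
      (!![1, 0; 1, 1] * !![(0 : F), 1; -1, 0] : Matrix (Fin 2) (Fin 2) F) 0 0
    simp [Matrix.mul_apply, Fin.sum_univ_two]
  · apply smul_mem_center
    refine ⟨-1, ?_⟩
    show (!![(0 : F), 1; -1, 0] * !![(0 : F), 1; -1, 0] : Matrix (Fin 2) (Fin 2) F) = _
    ext i j
    fin_cases i <;> fin_cases j <;> simp [Matrix.mul_apply, Fin.sum_univ_two]
  · apply ext2
    ext i j
    fin_cases i <;> fin_cases j <;> simp [Matrix.mul_apply, Fin.sum_univ_two] <;>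
    first
    | ring1
    | linear_combination x * hab
    | linear_combination y * hab
    | linear_combination (-x) * hab
    | linear_combination (-y) * hab
  · apply ext2
    ext i j
    fin_cases i <;> fin_cases j <;> simp [Matrix.mul_apply, Fin.sum_univ_two] <;>
    first
    | ring1
    | linear_combination x * hab
    | linear_combination y * hab
    | linear_combination (-x) * hab
    | linear_combination (-y) * hab
  · apply smul_mem_center
    refine ⟨-1, ?_⟩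
    show (!![(0 : F), 1; -1, 0] * !![a, b; b, -a] * !![b, -a; -a, -b] : Matrix (Fin 2) (Fin 2) F) = _
    ext i j
    fin_cases i <;> fin_cases j <;> simp [Matrix.mul_apply, Fin.sum_univ_two] <;>
    first
    | ring1
    | linear_combination hab

end Two

section Three

variable {F : Type*} [Field F]

theorem pure_psl3 (h2 : (2 : F) ≠ 0) : Pure (Matrix.ProjectiveSpecialLinearGroup (Fin 3) F) := by
  refine pure_of (C := ⟨!![-1, 0, 0; 0, -1, 0; 0, 0, 1], by simp [Matrix.det_fin_three]⟩)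
    (C1 := ⟨!![1, 0, 0; 0, -1, 0; 0, 0, -1], by simp [Matrix.det_fin_three]⟩)
    (C2 := ⟨!![-1, 0, 0; 0, 1, 0; 0, 0, -1], by simp [Matrix.det_fin_three]⟩)
    (H := ⟨!![0, 1, 0; 0, 0, 1; 1, 0, 0], by simp [Matrix.det_fin_three]⟩)
    (K := ⟨!![0, 0, 1; 1, 0, 0; 0, 1, 0], by simp [Matrix.det_fin_three]⟩) ?_ ?_ ?_ ?_ ?_
  · refine notMem_center (B := ⟨!![0, 1, 0; 0, 0, 1; 1, 0, 0], by simp [Matrix.det_fin_three]⟩) 1 2 ?_
    show (!![(-1 : F), 0, 0; 0, -1, 0; 0, 0, 1] * !![0, 1, 0; 0, 0, 1; 1, 0, 0] : Matrix (Fin 3) (Fin 3) F) 1 2 ≠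
      (!![0, 1, 0; 0, 0, 1; 1, 0, 0] * !![(-1 : F), 0, 0; 0, -1, 0; 0, 0, 1] : Matrix (Fin 3) (Fin 3) F) 1 2
    simp [Matrix.mul_apply, Fin.sum_univ_three]
    intro h3
    apply h2
    linear_combination (-1 : F) * h3
  · apply smul_mem_center
    refine ⟨1, ?_⟩
    show (!![(-1 : F), 0, 0; 0, -1, 0; 0, 0, 1] * !![(-1 : F), 0, 0; 0, -1, 0; 0, 0, 1] : Matrix (Fin 3) (Fin 3) F) = _
    ext i j
    fin_cases i <;> fin_cases j <;> simp [Matrix.mul_apply, Fin.sum_univ_three]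
  · apply ext2
    ext i j
    fin_cases i <;> fin_cases j <;> simp [Matrix.mul_apply, Fin.sum_univ_three]
  · apply ext2
    ext i j
    fin_cases i <;> fin_cases j <;> simp [Matrix.mul_apply, Fin.sum_univ_three]
  · apply smul_mem_center
    refine ⟨1, ?_⟩
    show (!![(-1 : F), 0, 0; 0, -1, 0; 0, 0, 1] * !![1, 0, 0; 0, -1, 0; 0, 0, -1] *
      !![-1, 0, 0; 0, 1, 0; 0, 0, -1] : Matrix (Fin 3) (Fin 3) F) = _
    ext i j
    fin_cases i <;> fin_cases j <;> simp [Matrix.mul_apply, Fin.sum_univ_three]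

end Three

section Suz

open Cfsg.Agent.LieRecognition.SzMatrix

theorem pure_sz {F : Type} [Field F] [Fintype F] {m : ℕ} (hm : 1 ≤ m) (hF : Fintype.card F = 2 ^ (2 * m + 1)) :
    Pure ↥(Cfsg.Lie.Sz F (2 ^ (m + 1))) := by
  have H := good hF
  set θ := theta hF with hθ
  have hsurj : Function.Surjective θ := Finite.injective_iff_surjective.1 θ.injective
  -- an element different from 0, 1
  obtain ⟨t, ht0, ht1⟩ : ∃ t : F, t ≠ 0 ∧ t ≠ 1 := by
    classical
    by_contra hc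
    push Not at hc
    have h1 : (Finset.univ : Finset F) ⊆ {0, 1} := by
      intro x _
      rw [Finset.mem_insert, Finset.mem_singleton]
      by_cases hx : x = 0
      · exact Or.inl hx
      · exact Or.inr (hc x hx)
    have h3 := (Finset.card_le_card h1).trans Finset.card_le_two
    rw [Finset.card_univ, hF] at h3
    have h4 : 2 ^ 3 ≤ 2 ^ (2 * m + 1) := Nat.pow_le_pow_right (by norm_num) (by omega)
    omega
  have ht1' : 1 + t ≠ 0 := by
    intro h1
    apply ht1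
    linear_combination h1 - H.two
  have key : ∀ x : F, x ≠ 0 → ∃ h : ↥(Cfsg.Lie.Sz F (2 ^ (m + 1))), h⁻¹ * H.u 0 1 * h = H.u 0 x := by
    intro x hx
    obtain ⟨k, hk⟩ := hsurj x
    have hk0 : k ≠ 0 := by
      rintro rfl
      rw [map_zero] at hk
      exact hx hk.symm
    refine ⟨(H.d (Units.mk0 k hk0))⁻¹, ?_⟩
    rw [inv_inv, H.d_mul_u, zero_mul, zero_mul, mul_inv_cancel_right, one_mul]
    show H.u 0 (θ k) = _
    rw [hk]
  obtain ⟨h, hh⟩ := key t ht0
  obtain ⟨k, hk⟩ := key (1 + t) ht1'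
  refine ⟨H.u 0 1, h, k, ?_, ?_, ?_⟩
  · intro h1
    rw [← H.u_zero] at h1
    exact one_ne_zero (H.u_inj h1).2
  · rw [H.u_mul, ← H.u_zero]
    congr 1
    · rw [add_zero]
    · rw [zero_mul, add_zero]
      exact H.add_self 1
  · rw [hh, hk, H.u_mul, H.u_mul, ← H.u_zero]
    congr 1
    · simp
    · simp only [add_zero, zero_mul]
      exact H.add_self _

end Suz

end Cfsg.Agent.H285.Ccp
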