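import Cfsg.Agent.H285.Ccp.PureL
import Cfsg.Agent.Classification.MinSimpleStrong

/-!
# S4114 from the simple groups (helper285)
-/

set_option autoImplicit false

namespace Cfsg.Agent.H285.Ccp

open Cfsg.Agent.H520

universe u

/-- The minimal simple groups have pure four-groups. -/
theorem pure_of_minimal {K : Type*} [Group K] [Finite K] (h : Cfsg.IsMinimalSimple K) : Pure K :=
  pure_of_list (Cfsg.Agent.Classification.MinSimpleStrong.concl h)

/-- **S4114** from the rows of the simple groups. -/
theorem solvable_of_rows (hz : ZStarT)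
    (hrow : ∀ (K : Type) [Group K] [Finite K] [IsSimpleGroup K], (¬ ∀ a b : K, a * b = b * a) → Row K)
    {G : Type u} [Group G] [Finite G] (α : MulAut G)
    (hccp : ∀ x : G, ∃ c g : G, α c = c ∧ x = c * (g⁻¹ * α g))
    (hgen : Subgroup.closure {y : G | ∃ g : G, y = g⁻¹ * α g} = ⊤) : Group.IsSolvable G :=
  solvable_of_red hz hrow (fun _ _ _ h => pure_of_minimal h) α hccp hgen

end Cfsg.Agent.H285.Ccp
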