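import Cfsg.Agent.H285.Ccp.Moved
import Cfsg.Prelude.Def_CaseTheorems

/-!
# S4114: reduction to simple groups (helper285)

* `Pure K` : an involution `c` with `c cʰ cᵏ = 1`;
* `red` : if no nonabelian simple group has a minimal configuration and the minimal simple groups satisfy `Pure` then
  `[G, α]` is solvable for every `α` with `CCP α`.
-/

set_option autoImplicit false
set_option linter.unusedSectionVars false

namespace Cfsg.Agent.H285.Ccp

open Subgroup Cfsg Cfsg.Agent.H520 Cfsg.Agent.H566

universe u

/-- A pure four-group: an involution `c` with `c cʰ cᵏ = 1`. -/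
def Pure (K : Type*) [Group K] : Prop := ∃ c h k : K, c ≠ 1 ∧ c * c = 1 ∧ c * (h⁻¹ * c * h) * (k⁻¹ * c * k) = 1

theorem Pure.congr {K L : Type*} [Group K] [Group L] (e : K ≃* L) (h : Pure K) : Pure L := by
  obtain ⟨c, x, y, h1, h2, h3⟩ := h
  refine ⟨e c, e x, e y, ?_, ?_, ?_⟩
  · intro h4
    exact h1 (e.injective (by rw [h4, map_one]))
  · rw [← map_mul, h2, map_one]
  · rw [← map_inv, ← map_inv, ← map_mul, ← map_mul, ← map_mul, ← map_mul, ← map_mul, ← map_mul, h3, map_one]

/-- `α` trivial on the factor: the factor has no pure four-group. -/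
theorem Mv.not_pure {G : Type*} [Group G] [Finite G] {Q : Type*} [Group Q] {α : MulAut G} {f : G →* Q} {k : ℕ}
    (h : Mv α f k 1) (hα : CCP α) : ¬ Pure Q := by
  rintro ⟨c, a, b, hc, hcc, habc⟩
  apply hc
  have hk := h.k2
  -- even powers
  have hev : ∀ j : ℕ, ((List.range (2 * j)).map fun _ => (1 : Q)⁻¹ * c * 1).prod = 1 := by
    intro j
    rw [List.map_const', List.prod_replicate, List.length_range, inv_one, one_mul, mul_one, pow_mul, pow_two, hcc,
      one_pow]
  rcases Nat.even_or_odd' k with ⟨j, hj | hj⟩
  · refine h.prod_one hα (c := c) (fun _ => 1) ?_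
    rw [hj]
    exact hev j
  · obtain ⟨l, rfl⟩ : ∃ l, j = l + 1 := ⟨j - 1, by omega⟩
    refine h.prod_one hα (c := c) (fun i => if i = 0 then 1 else if i = 1 then a else if i = 2 then b else 1) ?_
    have h1 : k = 3 + 2 * l := by omega
    have h2 : List.range k = [0, 1, 2] ++ (List.range (2 * l)).map (3 + ·) := by
      rw [h1, List.range_add]
      rfl
    rw [h2, List.map_append, List.prod_append, List.map_map]
    have h3 : ((List.range (2 * l)).map ((fun i : ℕ =>
        (if i = 0 then 1 else if i = 1 then a else if i = 2 then b else 1)⁻¹ * c *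
        (if i = 0 then 1 else if i = 1 then a else if i = 2 then b else 1)) ∘ (3 + ·))).prod = 1 := by
      refine Eq.trans ?_ (hev l)
      congr 1
      apply List.map_congr_left
      intro i _
      have e0 : ¬ (3 + i = 0) := by omega
      have e1 : ¬ (3 + i = 1) := by omega
      have e2 : ¬ (3 + i = 2) := by omega
      show (if 3 + i = 0 then (1 : Q) else if 3 + i = 1 then a else if 3 + i = 2 then b else 1)⁻¹ * c *
        (if 3 + i = 0 then 1 else if 3 + i = 1 then a else if 3 + i = 2 then b else 1) = _
      rw [if_neg e0, if_neg e1, if_neg e2]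
    rw [h3, mul_one]
    simp only [List.map_cons, List.map_nil, List.prod_cons, List.prod_nil, mul_one, if_true, if_false, one_ne_zero,
      OfNat.ofNat_ne_zero, OfNat.ofNat_ne_one, inv_one, one_mul]
    rw [← habc]
    group

/-- **A moved simple factor.** -/
theorem moved_false {G : Type u} [Group G] [Finite G] (hz : ZStarT)
    (hrow : ∀ (K : Type u) [Group K] [Finite K] [IsSimpleGroup K], (¬ ∀ a b : K, a * b = b * a) → Row K)
    (hpure : ∀ (K : Type u) [Group K] [Finite K], IsMinimalSimple K → Pure K) {α : MulAut G} (hα : CCP α)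
    (hmin : ∀ M : Subgroup G, M.Normal → (∀ m ∈ M, α m ∈ M) → M = ⊥ ∨ M = ⊤)
    (hsub : ∀ M : Subgroup G, M ≠ ⊤ → (∀ m ∈ M, α m ∈ M) → Group.IsSolvable (cM α M))
    {T : Subgroup G} (hT : T ∈ NSim G) (hm : T.map α.toMonoidHom ≠ T) : False := by
  obtain ⟨Q, _, _, f, k, β, hQs, hQn, hmv⟩ := exists_mv hmin hT hm
  by_cases hβ : β = 1
  · subst hβ
    refine hmv.not_pure hα (hpure Q ⟨hQs, ?_, ?_⟩)
    · intro hc
      exact hQn fun a b => hc.is_comm.comm a b
    · intro M hM
      exact hmv.solv hsub hM fun m hm => hm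
  · refine hrow Q hQn β ⟨hz, hmv.ccp hα, hβ, hQs, hQn, fun M hM hMi => ?_⟩
    have h1 := hmv.solv hsub hM hMi
    have h2 : cM β M ≤ M := cM_le β hMi
    exact Group.isSolvable_of_isSolvable_injective (f := inclusion h2) (inclusion_injective h2)

/-- **Reduction to simple groups.** -/
theorem red (hz : ZStarT)
    (hrow : ∀ (K : Type u) [Group K] [Finite K] [IsSimpleGroup K], (¬ ∀ a b : K, a * b = b * a) → Row K)
    (hpure : ∀ (K : Type u) [Group K] [Finite K], IsMinimalSimple K → Pure K) :
    ∀ (G : Type u) [Group G] [Finite G] (α : MulAut G), CCP α → Group.IsSolvable (cG α) := by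
  intro G _ _
  induction hn : Nat.card G using Nat.strong_induction_on generalizing G with
  | _ n ih =>
  subst hn
  intro α hα
  by_contra hns
  -- proper invariant subgroups
  have hsub : ∀ M : Subgroup G, M ≠ ⊤ → (∀ m ∈ M, α m ∈ M) → Group.IsSolvable (cM α M) := by
    intro M hMt hM
    rw [solvable_cM_iff α M hM]
    refine ih (Nat.card M) ?_ M rfl _ (hα.res M hM)
    exact lt_of_le_of_ne M.card_le_card_group fun h => hMt (eq_top_of_card_eq M h)
  -- no solvable invariant normal subgroups
  have hrad : ∀ N : Subgroup G, N.Normal → (∀ m ∈ N, α m ∈ N) → Group.IsSolvable N → N = ⊥ := by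
    intro N hN hNi hNs
    by_contra hb
    apply hns
    have h1 : Nat.card (G ⧸ N) < Nat.card G := by
      have h2 : 1 < Nat.card N := by
        rw [one_lt_card_iff_ne_bot]; exact hb
      have h3 := card_eq_card_quotient_mul_card_subgroup N
      have h4 : 0 < Nat.card (G ⧸ N) := Nat.card_pos
      nlinarith
    have h2 := ih _ h1 (G ⧸ N) rfl _ (hα.quo N hNi)
    rw [← map_cG_quoA] at h2
    have : (N.subgroupOf (cG α)).Normal := inferInstance
    rw [Group.isSolvable_iff_subgroup_quotient (N.subgroupOf (cG α))]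
    constructor
    · exact Group.isSolvable_of_isSolvable_injective
        (f := (((cG α).subtype.comp (N.subgroupOf (cG α)).subtype).codRestrict N fun x => x.2))
        (fun a b hab => Subtype.ext (Subtype.ext (by
          have h9 := congrArg (fun z : ↥N => (z : G)) hab
          exact h9)))
    · let f : ↥(cG α) →* ↥((cG α).map (QuotientGroup.mk' N)) := (QuotientGroup.mk' N).subgroupMap (cG α)
      have hk : f.ker = N.subgroupOf (cG α) := by
        ext x
        rw [MonoidHom.mem_ker, mem_subgroupOf]
        constructor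
        · intro hx
          have h5 : QuotientGroup.mk' N (x : G) = 1 := congrArg Subtype.val hx
          exact (QuotientGroup.eq_one_iff _).1 h5
        · intro hx
          apply Subtype.ext
          exact (QuotientGroup.eq_one_iff _).2 hx
      have e : ↥(cG α) ⧸ N.subgroupOf (cG α) ≃* ↥((cG α).map (QuotientGroup.mk' N)) :=
        (QuotientGroup.quotientMulEquivOfEq hk.symm).trans
          (QuotientGroup.quotientKerEquivOfSurjective f ((QuotientGroup.mk' N).subgroupMap_surjective (cG α)))
      exact Group.isSolvable_of_isSolvable_injective (f := e.toMonoidHom) e.injective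
  -- `α` centralises the proper invariant normal subgroups
  have htriv : ∀ M : Subgroup G, M ≠ ⊤ → M.Normal → (∀ m ∈ M, α m ∈ M) → ∀ m ∈ M, α m = m := by
    intro M hMt hMn hM
    -- the largest solvable normal subgroup of `M`
    obtain ⟨R, hR1, hR2, hR3⟩ := exists_rad M
    have hRinv : ∀ φ : MulAut M, ∀ r ∈ R, φ r ∈ R := by
      intro φ r hr
      exact hR3 _ (hR1.map _ φ.surjective) (map_solvable_equiv hR2 φ) (mem_map_of_mem _ hr)
    have hRG : (R.map M.subtype).Normal := by
      constructor
      rintro _ ⟨r, hr, rfl⟩ g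
      refine ⟨MulAut.conjNormal g r, hRinv _ _ hr, ?_⟩
      simp
    have hRb : R.map M.subtype = ⊥ := by
      apply hrad _ hRG
      · rintro _ ⟨r, hr, rfl⟩
        exact ⟨resA α M hM r, hRinv _ _ hr, rfl⟩
      · have e : ↥R ≃* ↥(R.map M.subtype) := R.equivMapOfInjective M.subtype M.subtype_injective
        exact Group.isSolvable_of_isSolvable_injective (f := e.symm.toMonoidHom) e.symm.injective
    have hc : cM α M = ⊥ := by
      rw [← map_cG_resA α M hM, eq_bot_iff, ← hRb]
      apply map_mono
      exact hR3 _ (cG_normal _) ((solvable_cM_iff α M hM).1 (hsub M hMt hM))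
    intro m hm
    have := mem_cM α hm
    rw [hc, mem_bot] at this
    exact (inv_mul_eq_one.mp this).symm
  have hG1 : cG α ≠ ⊥ := fun h => hns (by rw [h]; infer_instance)
  -- no invariant normal subgroups
  have hmin : ∀ M : Subgroup G, M.Normal → (∀ m ∈ M, α m ∈ M) → M = ⊥ ∨ M = ⊤ := by
    intro M hMn hM
    by_contra hcon
    push Not at hcon
    obtain ⟨hb, ht⟩ := hcon
    have h1 := cG_le_centralizer α (htriv M ht hMn hM)
    have h2 := centralizer_inv α hM
    have hCt : centralizer (M : Set G) ≠ ⊤ := by
      intro h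
      apply hb
      apply hrad M hMn hM
      apply Group.isSolvable_of_comm
      intro a b
      apply Subtype.ext
      have h3 : (a : G) ∈ centralizer (M : Set G) := by rw [h]; trivial
      exact (mem_centralizer_iff.1 h3 b b.2).symm
    have hCn : (centralizer (M : Set G)).Normal := inferInstance
    have h4 := htriv _ hCt hCn h2
    apply hG1
    rw [eq_bot_iff, cG, closure_le]
    rintro _ ⟨g, rfl⟩
    rw [SetLike.mem_coe, mem_bot]
    have h5 : α (g⁻¹ * α g) = g⁻¹ * α g := h4 _ (h1 (mem_cG α g))
    have h6 : α g = g := hα.eq_of_fix (k := 1) (by rw [one_mul, inv_one, mul_one, h5])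
    rw [h6, inv_mul_cancel]
  have hna : ¬ ∀ a b : G, a * b = b * a := by
    intro h
    apply hns
    apply Group.isSolvable_of_comm
    intro a b
    exact Subtype.ext (h a b)
  obtain ⟨T, hT⟩ := exists_nsim (A := zpowers α) hna (by
    intro N hN hst
    exact hmin N hN fun m hm => hst α (mem_zpowers α) m hm)
  by_cases hTα : T.map α.toMonoidHom = T
  · -- `G = T` is simple
    have hTi : ∀ m ∈ T, α m ∈ T := by
      intro m hm
      rw [← hTα]
      exact mem_map_of_mem _ hm
    have hTs := hT.2.1
    have hTt : T = ⊤ := by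
      rcases hmin T hT.1 hTi with h | h
      · exfalso
        apply hT.2.2
        intro a ha b hb
        rw [h, mem_bot] at ha hb
        rw [ha, hb]
      · exact h
    have hGs : IsSimpleGroup G := by
      have e : ↥T ≃* G := (MulEquiv.subgroupCongr hTt).trans Subgroup.topEquiv
      exact e.symm.isSimpleGroup
    have hα1 : α ≠ 1 := by
      rintro rfl
      apply hG1
      rw [eq_bot_iff, cG, closure_le]
      rintro _ ⟨g, rfl⟩
      rw [SetLike.mem_coe, mem_bot]
      simp
    exact hrow G hna α ⟨hz, hα, hα1, hGs, hna, hsub⟩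
  · exact moved_false hz hrow hpure hα hmin hsub hT hTα

/-- **S4114** for an arbitrary universe from the simple groups in `Type`. -/
theorem solvable_of_red (hz : ZStarT)
    (hrow : ∀ (K : Type) [Group K] [Finite K] [IsSimpleGroup K], (¬ ∀ a b : K, a * b = b * a) → Row K)
    (hpure : ∀ (K : Type) [Group K] [Finite K], IsMinimalSimple K → Pure K)
    {G : Type u} [Group G] [Finite G] (α : MulAut G)
    (hccp : ∀ x : G, ∃ c g : G, α c = c ∧ x = c * (g⁻¹ * α g))
    (hgen : Subgroup.closure {y : G | ∃ g : G, y = g⁻¹ * α g} = ⊤) : Group.IsSolvable G := by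
  obtain ⟨K, iK, iF, ⟨e⟩⟩ := exists_type0 G
  have h1 : CCP (MulAut.congr e α) := CCP.congr (α := α) hccp e
  have h2 := red hz hrow hpure K _ h1
  have h3 : cG (MulAut.congr e α) = ⊤ := by
    rw [eq_top_iff, ← Subgroup.map_top_of_surjective e.toMonoidHom e.surjective, ← hgen, MonoidHom.map_closure, closure_le]
    rintro _ ⟨_, ⟨g, rfl⟩, rfl⟩
    have h4 := mem_cG (MulAut.congr e α) (e g)
    rw [congr_ap, ← map_inv, ← map_mul] at h4
    exact h4
  rw [h3] at h2
  exact Group.isSolvable_of_isSolvable_injective (f := (Subgroup.topEquiv.symm.toMonoidHom.comp e.toMonoidHom))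
    (Subgroup.topEquiv.symm.injective.comp e.injective)

end Cfsg.Agent.H285.Ccp
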