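import Cfsg.Agent.H497.Stein.Heis
import Cfsg.Agent.H87.TitsData
import Cfsg.Agent.BpSpor.Row.Tits

/-!
# S4114: the row of the Tits group (helper285)

* `moved_three` : the elements of order 3 are conjugate to `t` (`H87.TitsData`);
* `moved_of_pair` : `c` acts on an elementary abelian Sylow subgroup `⟨x, y⟩` as the `a`-th power;
* `moved_five`, `row_tits`.
-/

set_option autoImplicit false
set_option maxRecDepth 100000

namespace Cfsg.Agent.H285.Ccp.Tits

open Subgroup Cfsg Cfsg.Agent.H520 Cfsg.Agent.H497.Stein Cfsg.Agent.H792.SpCube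

universe u

/-! ### Elementary abelian Sylow subgroups of rank two -/

section pair

variable {G : Type*} [Group G] {x y : G}

/-- the products `x ^ i * y ^ j` -/
def H (h : x * y = y * x) : Subgroup G where
  carrier := {g | ∃ i j : ℤ, g = x ^ i * y ^ j}
  one_mem' := ⟨0, 0, by simp⟩
  mul_mem' := by
    rintro _ _ ⟨i, j, rfl⟩ ⟨k, l, rfl⟩
    refine ⟨i + k, j + l, ?_⟩
    have h1 : x ^ k * y ^ j = y ^ j * x ^ k := ((show Commute x y from h).zpow_zpow k j).eq
    calc x ^ i * y ^ j * (x ^ k * y ^ l) = x ^ i * (y ^ j * x ^ k) * y ^ l := by group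
      _ = x ^ i * (x ^ k * y ^ j) * y ^ l := by rw [h1]
      _ = x ^ (i + k) * y ^ (j + l) := by rw [zpow_add, zpow_add]; group
  inv_mem' := by
    rintro _ ⟨i, j, rfl⟩
    refine ⟨-i, -j, ?_⟩
    have h1 := ((show Commute x y from h).zpow_zpow (-i) (-j)).eq
    rw [mul_inv_rev, ← zpow_neg, ← zpow_neg, h1]

/-- `c` acts on `⟨x, y⟩` as the `a`-th power and `y ∉ ⟨x⟩` by `r`. -/
theorem moved_of_pair [Finite G] {p : ℕ} [hp : Fact p.Prime] (hp2 : p ≠ 2) (h3 : ¬ p ^ 3 ∣ Nat.card G)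
    (h : x * y = y * x) (hx : x ^ p = 1) (hy : y ^ p = 1) (hx1 : x ≠ 1) (hy1 : y ≠ 1) {r : G}
    (hrx : r * x = x * r) (hry : r * y * r⁻¹ = y⁻¹) {c : G} {a : ℕ} (ha : ¬ (p : ℤ) ∣ a - 1)
    (hcx : c * x * c⁻¹ = x ^ a) (hcy : c * y * c⁻¹ = y ^ a) : Moved p G := by
  have hxo : orderOf x = p := orderOf_eq_prime hx hx1
  have hHp : IsPGroup p (H h) := by
    rintro ⟨g, i, j, rfl⟩
    refine ⟨1, Subtype.ext ?_⟩
    show (x ^ i * y ^ j) ^ (p ^ 1) = 1
    rw [pow_one, ((show Commute x y from h).zpow_zpow i j).mul_pow, ← zpow_natCast, ← zpow_natCast, ← zpow_mul,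
      ← zpow_mul, mul_comm i, mul_comm j, zpow_mul, zpow_mul, zpow_natCast, zpow_natCast, hx, hy, one_zpow, one_zpow,
      one_mul]
  have hle : zpowers x ≤ H h := by
    rw [zpowers_le]
    exact ⟨1, 0, by simp⟩
  have hyx : y ∉ zpowers x := by
    intro hm
    obtain ⟨k, hk⟩ := mem_zpowers_iff.1 hm
    have h1 : r * y * r⁻¹ = y := by
      rw [← hk, ((show Commute r x from hrx).zpow_right k).eq, mul_inv_cancel_right]
    rw [hry] at h1
    have h2 : y ^ 2 = 1 := by
      rw [pow_two]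
      nth_rewrite 1 [← h1]
      exact inv_mul_cancel y
    have h4 : orderOf y = p := orderOf_eq_prime hy hy1
    have h5 := orderOf_dvd_of_pow_eq_one h2
    rw [h4] at h5
    exact hp2 ((Nat.prime_dvd_prime_iff_eq hp.out Nat.prime_two).1 h5)
  obtain ⟨Q, hQ⟩ := hHp.exists_le_sylow
  have hcard : Nat.card (Q : Subgroup G) ≤ Nat.card (H h) := by
    obtain ⟨n, hn⟩ := IsPGroup.iff_card.1 Q.2
    obtain ⟨m, hm⟩ := IsPGroup.iff_card.1 hHp
    have hn2 : n ≤ 2 := by
      by_contra hlt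
      apply h3
      refine (pow_dvd_pow p (by omega : 3 ≤ n)).trans ?_
      rw [← hn]
      exact card_subgroup_dvd_card _
    have hm2 : 2 ≤ m := by
      by_contra hlt
      have h4 : Nat.card (H h) ≤ Nat.card (zpowers x) := by
        rw [hm, Nat.card_zpowers, hxo]
        calc p ^ m ≤ p ^ 1 := Nat.pow_le_pow_right hp.out.pos (by omega)
          _ = p := pow_one p
      have h5 := eq_of_le_of_card_ge hle h4
      apply hyx
      rw [h5]
      exact ⟨0, 1, by simp⟩
    rw [hn, hm]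
    exact Nat.pow_le_pow_right hp.out.pos (by omega)
  have hQe : H h = (Q : Subgroup G) := eq_of_le_of_card_ge hQ hcard
  refine moved_of_sylow Q fun s hs hso => ?_
  rw [← hQe] at hs
  obtain ⟨i, j, rfl⟩ := hs
  have e : ∀ (g : G) (k : ℤ), c * g ^ k * c⁻¹ = (c * g * c⁻¹) ^ k := fun g k => by rw [conj_zpow]
  have h1 : c * (x ^ i * y ^ j) * c⁻¹ = (x ^ i * y ^ j) ^ a := by
    calc c * (x ^ i * y ^ j) * c⁻¹ = (c * x ^ i * c⁻¹) * (c * y ^ j * c⁻¹) := by group
      _ = (x ^ i * y ^ j) ^ a := by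
        rw [e, e, hcx, hcy, ((show Commute x y from h).zpow_zpow i j).mul_pow, ← zpow_natCast, ← zpow_natCast,
          ← zpow_natCast, ← zpow_natCast, ← zpow_mul, ← zpow_mul, ← zpow_mul, ← zpow_mul, mul_comm i, mul_comm j]
  refine ⟨c, a, h1, fun h4 => ha ?_⟩
  have h5 : (x ^ i * y ^ j) ^ ((a : ℤ) - 1) = 1 := by
    rw [zpow_sub, zpow_one, zpow_natCast, h4, mul_inv_cancel]
  have h6 := orderOf_dvd_iff_zpow_eq_one.2 h5
  rwa [hso] at h6

end pair

/-! ### The elements of order 3 -/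

theorem moved_three_of_dat {G : Type u} [Group G] [Finite G] (D : H87.TitsAbs.Dat G) (h4 : ¬ 3 ^ 4 ∣ Nat.card G) :
    Moved 3 G := by
  have : Fact (Nat.Prime 3) := ⟨Nat.prime_three⟩
  have ht : MovedAt D.t := by
    have h1 := D.conj 2 (by norm_num) 0 (by norm_num) 0 (by norm_num) (Or.inl (by norm_num))
    rw [pow_zero, pow_zero, mul_one, mul_one] at h1
    obtain ⟨g, hg⟩ := isConj_iff.1 h1.symm
    refine ⟨g, 2, hg, fun h2 => D.t1 ?_⟩
    rw [pow_two] at h2
    exact mul_eq_left.1 h2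
  have key : ∀ a < 3, ∀ b < 3, ∀ c < 3, (a ≠ 0 ∨ b ≠ 0 ∨ c ≠ 0) → MovedAt (D.t ^ a * D.s ^ b * D.z ^ c) :=
    fun a ha b hb c hc h => MovedAt.of_isConj (D.conj a ha b hb c hc h).symm ht
  have hH : Heis 3 D.s D.t D.z := by
    refine ⟨D.s3, D.t3, D.z3, D.zs.symm, D.zt.symm, ?_, ?_⟩
    · rw [D.ts, ← mul_assoc, D.zs, mul_assoc, D.zt, ← mul_assoc]
    · intro h
      obtain ⟨g, hg⟩ := isConj_iff.1 (D.conj 0 (by norm_num) 0 (by norm_num) 1 (by norm_num)
        (Or.inr (Or.inr (by norm_num)))).symm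
      rw [pow_zero, pow_zero, one_mul, one_mul, pow_one, h] at hg
      apply D.t1
      have h2 : g * D.t = g := by
        calc g * D.t = g * D.t * g⁻¹ * g := by group
          _ = g := by rw [hg, one_mul]
      exact mul_eq_left.1 h2
  refine moved_of_heis_gen (by norm_num) h4 hH ?_ ht fun j hj => ?_
  · have h := key 0 (by norm_num) 0 (by norm_num) 1 (by norm_num) (Or.inr (Or.inr (by norm_num)))
    rwa [pow_zero, pow_zero, one_mul, one_mul, pow_one] at h
  · have e : ∃ k < 3, D.s * D.t ^ j = D.t ^ j * D.s ^ 1 * D.z ^ k := by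
      have h1 := D.st_pow j 1
      rw [pow_one] at h1
      have h2 : D.z ^ (2 * 1 * j) = D.z ^ ((2 * 1 * j) % 3) := by
        conv_lhs => rw [← Nat.mod_add_div (2 * 1 * j) 3, pow_add, pow_mul, D.z3, one_pow, mul_one]
      refine ⟨(2 * 1 * j) % 3, Nat.mod_lt _ (by norm_num), ?_⟩
      rw [pow_one, h1, h2]
    obtain ⟨k, hk, e⟩ := e
    rw [e]
    exact key j hj 1 (by norm_num) k hk (Or.inr (Or.inl (by norm_num)))

/-! ### The elements of order 5 -/

section five

open Cfsg.Agent.KFacts.OddLift.Basic Cfsg.Agent.KFacts.OddLift.TitMat Cfsg.Agent.KFacts.OddLift.TitGen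
open Cfsg.Agent.SporadicRecognition.CosetCert Cfsg.Agent.SporadicRecognition.CosetCertHyp
open Cfsg.Agent.ChevalleyStructure.Tits.Pack Cfsg.Agent.ChevalleyStructure.Tits.Mat
  Cfsg.Agent.ChevalleyStructure.Tits.Main Cfsg.Agent.ChevalleyStructure.Tits.Order
open Cfsg.Agent.H87.TitsData (pw ev_pw toMat_ne)
open scoped MatrixGroups

/-- words of `x`, `y`, `r`, `c` -/
def xw : List ℕ := [6, 3, 4, 0, 0]

@[inherit_doc xw] def yw' : List ℕ := [2, 5, 2, 4, 0, 6, 3, 6, 4, 0]

@[inherit_doc xw] def rw' : List ℕ := [3, 0, 4, 0, 7, 1, 1, 3, 5, 1, 6]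

@[inherit_doc xw] def cw' : List ℕ := [0, 3, 7, 2, 5, 6]

/-- relations `u = v` -/
def rl : List (List ℕ × List ℕ) := [(pw xw 5, []), (pw yw' 5, []), (xw ++ yw', yw' ++ xw), (rw' ++ xw, xw ++ rw'),
  (yw' ++ (rw' ++ yw'), rw'), (cw' ++ xw, pw xw 2 ++ cw'), (cw' ++ yw', pw yw' 2 ++ cw')]

theorem rl_ok : rl.all (fun p => Nat.beq (evP p.1) (evP p.2)) = true := by decide +kernel

theorem rl_lt : rl.all (fun p => (p.1.all fun y => Nat.blt y 8) && p.2.all fun y => Nat.blt y 8) = true := by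
  decide +kernel

theorem rel {u v : List ℕ} (h : (u, v) ∈ rl) : ev (lt b 4) u = ev (lt b 4) v := by
  have h1 := rl_ok
  rw [List.all_eq_true] at h1
  have h2 := rl_lt
  rw [List.all_eq_true] at h2
  have h3 := h2 _ h
  rw [Bool.and_eq_true] at h3
  apply Subtype.ext
  rw [coe_ev_b, coe_ev_b]
  apply Subtype.ext
  rw [coe_ev_bH, coe_ev_bH]
  apply Units.ext
  rw [coe_ev (all_lt8 h3.1), coe_ev (all_lt8 h3.2), Nat.eq_of_beq_eq_true (h1 _ h)]

theorem ev_ne {w : List ℕ} (hw : (w.all fun y => Nat.blt y 8) = true) (k : Fin 48)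
    (h : (evP w).testBit (4 + k) = true) : ev (lt b 4) w ≠ 1 := by
  intro h1
  have h2 : ((ev (lt b 4) w : commutator H0) : H0) = 1 := by rw [h1]; rfl
  rw [coe_ev_b] at h2
  have h3 : ((ev (lt bH 4) w : H0) : GL I52 (ZMod 2)) = 1 := by rw [h2]; rfl
  rw [coe_ev_bH] at h3
  have h4 := coe_ev (all_lt8 hw)
  rw [h3, Units.val_one] at h4
  exact toMat_ne k h h4.symm

theorem bitx : (evP xw).testBit 7 = true := by decide +kernel

theorem bity : (evP yw').testBit 7 = true := by decide +kernel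

theorem moved_five_aux (h3 : ¬ 5 ^ 3 ∣ Nat.card (commutator H0)) [Finite (commutator H0)] : Moved 5 (commutator H0) := by
  have : Fact (Nat.Prime 5) := ⟨by norm_num⟩
  have h1 := rel (u := pw xw 5) (v := []) (by simp [rl])
  have h2 := rel (u := pw yw' 5) (v := []) (by simp [rl])
  have h4 := rel (u := xw ++ yw') (v := yw' ++ xw) (by simp [rl])
  have h5 := rel (u := rw' ++ xw) (v := xw ++ rw') (by simp [rl])
  have h6 := rel (u := yw' ++ (rw' ++ yw')) (v := rw') (by simp [rl])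
  have h7 := rel (u := cw' ++ xw) (v := pw xw 2 ++ cw') (by simp [rl])
  have h8 := rel (u := cw' ++ yw') (v := pw yw' 2 ++ cw') (by simp [rl])
  rw [ev_pw, ev_nil] at h1 h2
  rw [ev_append, ev_append] at h4 h5 h6
  rw [ev_append, ev_append, ev_pw] at h7 h8
  refine moved_of_pair (x := ev (lt b 4) xw) (y := ev (lt b 4) yw') (r := ev (lt b 4) rw') (c := ev (lt b 4) cw')
    (a := 2) (by norm_num) h3 h4 h1 h2 (ev_ne (by decide) 3 bitx) (ev_ne (by decide) 3 bity) h5 ?_ (by norm_num) ?_ ?_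
  · rw [mul_inv_eq_iff_eq_mul, eq_inv_mul_iff_mul_eq]
    exact h6
  · rw [h7, mul_inv_cancel_right]
  · rw [h8, mul_inv_cancel_right]

theorem moved_aux (K : Subgroup (GL I52 (ZMod 2))) (hK : K = H0) : Moved 5 (commutator K) := by
  subst hK
  have hc : Nat.card (commutator H0) = 2 ^ 11 * 3 ^ 3 * 5 ^ 2 * 13 := H0_result.2.2.2
  have : Finite (commutator H0) := Nat.finite_of_card_ne_zero (by rw [hc]; norm_num)
  exact moved_five_aux (by rw [hc]; norm_num)

end five

theorem moved_five : Moved 5 Lie.TitsGroup := moved_aux _ Cfsg.Agent.ChevalleyStructure.Tits.Main.T0_eq_H0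

theorem moved_three : Moved 3 Lie.TitsGroup := by
  obtain ⟨D⟩ := H87.TitsData.dat_tits
  have hc := H87.TitsData.card_tits
  have : Finite Lie.TitsGroup := Nat.finite_of_card_ne_zero (by rw [hc]; norm_num)
  exact moved_three_of_dat D (by rw [hc]; norm_num)

theorem moved_of_tits {p : ℕ} {G : Type u} [Group G] (e : G ≃* Lie.TitsGroup) : Moved p Lie.TitsGroup → Moved p G :=
  Moved.congr e

theorem moved_three' {G : Type u} [Group G] (h : Lie.IsoTits G) : Moved 3 G :=
  h.elim fun e => moved_of_tits e moved_three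

theorem moved_five' {G : Type u} [Group G] (h : Lie.IsoTits G) : Moved 5 G :=
  h.elim fun e => moved_of_tits e moved_five

/-- **S4114, the row of the Tits group.** -/
theorem row_tits {G : Type u} [Group G] [Finite G] (h : Lie.IsoTits G) : Row G := by
  refine row_of_dat (BpSpor.Row.dat_tits h) (l := [(2, 11), (3, 3), (5, 2), (13, 1)]) (by decide +kernel) (by norm_num)
    fun x hx hx2 hx3 => ?_
  simp only [List.mem_cons, List.not_mem_nil, or_false] at hx
  rcases hx with rfl | rfl | rfl | rfl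
  · exact absurd rfl hx3
  · exact moved_three' h
  · exact moved_five' h
  · exact absurd hx2 (by norm_num)

end Cfsg.Agent.H285.Ccp.Tits
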